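import Cfsg.Agent.Lib.TwoFusion.Hig.Quot4

/-!
# Invariant abelian subgroups are homocyclic of rank two
-/

set_option autoImplicit false
set_option linter.unusedSectionVars false
set_option linter.unusedVariables false
set_option linter.style.haveILetI false

namespace Cfsg.Agent.Lib.TwoFusion.Hig

open scoped commutatorElement

variable {T : Type*} [Group T] {α : MulAut T} {V : Subgroup T}

/-- The squares of an abelian subgroup. -/
def Sq (A : Subgroup T) (hc : ∀ a ∈ A, ∀ b ∈ A, a * b = b * a) : Subgroup T where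
  carrier := {x | ∃ a ∈ A, a * a = x}
  mul_mem' := by
    rintro _ _ ⟨a, ha, rfl⟩ ⟨b, hb, rfl⟩
    refine ⟨a * b, A.mul_mem ha hb, ?_⟩
    calc a * b * (a * b) = a * (b * a) * b := by group
      _ = a * (a * b) * b := by rw [hc b hb a ha]
      _ = a * a * (b * b) := by group
  one_mem' := ⟨1, A.one_mem, one_mul 1⟩
  inv_mem' := by
    rintro _ ⟨a, ha, rfl⟩
    exact ⟨a⁻¹, A.inv_mem ha, by group⟩

lemma mem_Sq {A : Subgroup T} {hc : ∀ a ∈ A, ∀ b ∈ A, a * b = b * a} {x : T} :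
    x ∈ Sq A hc ↔ ∃ a ∈ A, a * a = x := Iff.rfl

lemma Sq_le {A : Subgroup T} {hc : ∀ a ∈ A, ∀ b ∈ A, a * b = b * a} : Sq A hc ≤ A := by
  rintro _ ⟨a, ha, rfl⟩
  exact A.mul_mem ha ha

lemma comm_pow {A : Subgroup T} (hc : ∀ a ∈ A, ∀ b ∈ A, a * b = b * a) {a b : T} (ha : a ∈ A)
    (hb : b ∈ A) (k : ℕ) : (a * b) ^ k = a ^ k * b ^ k := by
  have : Commute a b := hc a ha b hb
  exact this.mul_pow k

instance Sq_normal (A : Subgroup T) [hA : A.Normal] (hc : ∀ a ∈ A, ∀ b ∈ A, a * b = b * a) :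
    (Sq A hc).Normal := ⟨by
  rintro _ ⟨a, ha, rfl⟩ g
  refine ⟨g * a * g⁻¹, hA.conj_mem a ha g, by group⟩⟩

/-- Invariant abelian subgroups. -/
structure AbSub (A : Subgroup T) (α : MulAut T) (V : Subgroup T) : Prop where
  comm : ∀ a ∈ A, ∀ b ∈ A, a * b = b * a
  inv : ∀ a ∈ A, α a ∈ A
  hV : V ≤ A

namespace Setup

/-- `|A : A²| = 4`. -/
theorem relIndex_Sq (S : Setup α V) {A : Subgroup T} (h : AbSub A α V) :
    (Sq A h.comm).relIndex A = 4 := by
  classical
  haveI := S.fin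
  let s : ↥A →* T :=
    { toFun := fun a => a.1 * a.1
      map_one' := by simp
      map_mul' := by
        intro a b
        have := h.comm b.1 b.2 a.1 a.2
        simp only [Subgroup.coe_mul]
        calc a.1 * b.1 * (a.1 * b.1) = a.1 * (b.1 * a.1) * b.1 := by group
          _ = a.1 * (a.1 * b.1) * b.1 := by rw [this]
          _ = _ := by group }
  have hker : Nat.card s.ker = 4 := by
    rw [← S.card_V]
    apply Nat.card_congr
    refine ⟨fun x => ⟨x.1.1, ?_⟩, fun v => ⟨⟨v.1, h.hV v.2⟩, ?_⟩, ?_, ?_⟩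
    · rw [S.mem_V]
      exact x.2
    · rw [MonoidHom.mem_ker]
      exact (S.mem_V _).mp v.2
    · intro x; rfl
    · intro v; rfl
  have hran : Nat.card s.range = Nat.card (Sq A h.comm) := by
    apply Nat.card_congr
    refine ⟨fun x => ⟨x.1, ?_⟩, fun y => ⟨y.1, ?_⟩, ?_, ?_⟩
    · obtain ⟨⟨a, ha⟩, hx⟩ := x.2
      exact ⟨a, ha, hx⟩
    · obtain ⟨a, ha, hx⟩ := y.2
      exact ⟨⟨a, ha⟩, hx⟩
    · intro x; rfl
    · intro x; rfl
  have h1 := s.ker.card_mul_index
  rw [Subgroup.index_ker, hker, hran] at h1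
  have h2 : Nat.card A = (Sq A h.comm).relIndex A * Nat.card (Sq A h.comm) := by
    have h3 := ((Sq A h.comm).subgroupOf A).card_mul_index
    have h4 : Nat.card ((Sq A h.comm).subgroupOf A) = Nat.card (Sq A h.comm) :=
      Nat.card_congr (Subgroup.subgroupOfEquivOfLe Sq_le).toEquiv
    rw [h4] at h3
    rw [← h3, Subgroup.relIndex, mul_comm]
  rw [← h1] at h2
  have hpos : 0 < Nat.card (Sq A h.comm) := Nat.card_pos
  exact (Nat.eq_of_mul_eq_mul_right hpos h2).symm

lemma card_A_eq (S : Setup α V) {A : Subgroup T} (h : AbSub A α V) :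
    Nat.card A = 4 * Nat.card (Sq A h.comm) := by
  have h3 := ((Sq A h.comm).subgroupOf A).card_mul_index
  have h4 : Nat.card ((Sq A h.comm).subgroupOf A) = Nat.card (Sq A h.comm) :=
    Nat.card_congr (Subgroup.subgroupOfEquivOfLe Sq_le).toEquiv
  rw [h4] at h3
  have h5 : ((Sq A h.comm).subgroupOf A).index = 4 := S.relIndex_Sq h
  rw [← h3, h5, mul_comm]

/-- Squares of an invariant abelian subgroup are invariant. -/
lemma Sq_inv {A : Subgroup T} (h : AbSub A α V) : ∀ a ∈ Sq A h.comm, α a ∈ Sq A h.comm := by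
  rintro _ ⟨a, ha, rfl⟩
  exact ⟨α a, h.inv a ha, by simp⟩

/-- The bound `|A| ≤ 4ⁿ`. -/
theorem card_le (S : Setup α V) (n : ℕ) : ∀ (A : Subgroup T) (hc : ∀ a ∈ A, ∀ b ∈ A, a * b = b * a)
    (hinv : ∀ a ∈ A, α a ∈ A) (hexp : ∀ a ∈ A, a ^ 2 ^ n = 1), Nat.card A ≤ 4 ^ n := by
  induction n with
  | zero =>
    intro A hc hinv hexp
    have : A = ⊥ := by
      rw [eq_bot_iff]
      intro x hx
      have := hexp x hx
      simpa using this
    rw [this]
    simp
  | succ n ih =>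
    intro A hc hinv hexp
    by_cases hbot : A = ⊥
    · rw [hbot]
      simp
      exact Nat.one_le_pow _ _ (by norm_num)
    have hV := S.V_le_of_invariant A hbot hinv
    have h : AbSub A α V := ⟨hc, hinv, hV⟩
    rw [S.card_A_eq h, pow_succ, mul_comm]
    apply Nat.mul_le_mul_right
    apply ih
    · intro x hx y hy
      exact hc x (Sq_le hx) y (Sq_le hy)
    · exact Sq_inv h
    · rintro _ ⟨a, ha, rfl⟩
      rw [← pow_two, ← pow_mul, ← pow_succ']
      exact hexp a ha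

/-- The exponent of an invariant abelian subgroup. -/
structure Exp (A : Subgroup T) (n : ℕ) : Prop where
  pos : 1 ≤ n
  top : ∀ a ∈ A, a ^ 2 ^ n = 1
  ex : ∃ a ∈ A, a ^ 2 ^ (n - 1) ≠ 1

theorem exists_exp (S : Setup α V) {A : Subgroup T} (h : AbSub A α V) : ∃ n, Exp A n := by
  classical
  haveI := S.fin
  have hex : ∃ n, ∀ a ∈ A, a ^ 2 ^ n = 1 := by
    obtain ⟨k, hk⟩ := IsPGroup.iff_card.mp S.p2
    refine ⟨k, fun a _ => ?_⟩
    rw [← hk]
    exact pow_card_eq_one'
  have h0 : ¬ (∀ a ∈ A, a ^ 2 ^ 0 = 1) := by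
    intro h1
    obtain ⟨v, hv, -, hv1⟩ := S.exists_mem_V V (by
      intro hb
      have := S.card_V
      rw [hb] at this
      simp at this)
    apply hv1
    simpa using h1 v (h.hV hv)
  have hpos : 1 ≤ Nat.find hex := by
    by_contra hlt
    have : Nat.find hex = 0 := by omega
    have h2 := Nat.find_spec hex
    rw [this] at h2
    exact h0 h2
  refine ⟨Nat.find hex, hpos, Nat.find_spec hex, ?_⟩
  have := Nat.find_min hex (m := Nat.find hex - 1) (by omega)
  push Not at this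
  exact this

variable {A : Subgroup T} {n : ℕ}

lemma pow_mem_V (S : Setup α V) (e : Exp A n) {a : T} (ha : a ∈ A) : a ^ 2 ^ (n - 1) ∈ V := by
  rw [S.mem_V, ← pow_add, ← two_mul, ← pow_succ']
  have : n - 1 + 1 = n := by have := e.pos; omega
  rw [this]
  exact e.top a ha

lemma map_pow' (a : T) (k : ℕ) : α (a ^ k) = (α a) ^ k := map_pow α a k

/-- Every element of `V` is a `2^(n-1)`-th power. -/
lemma exists_pow_eq (S : Setup α V) (h : AbSub A α V) (e : Exp A n) {v : T} (hv : v ∈ V) :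
    ∃ a ∈ A, a ^ 2 ^ (n - 1) = v := by
  obtain ⟨a₀, ha₀, hne⟩ := e.ex
  have hv0 := S.pow_mem_V e ha₀
  have hcases : v = 1 ∨ v = a₀ ^ 2 ^ (n - 1) ∨ v = α (a₀ ^ 2 ^ (n - 1)) ∨
      v = α (α (a₀ ^ 2 ^ (n - 1))) := S.V_cases hv0 hne hv
  rcases hcases with h1 | h1 | h1 | h1
  · exact ⟨1, A.one_mem, by simp [h1]⟩
  · exact ⟨a₀, ha₀, h1.symm⟩
  · exact ⟨α a₀, h.inv _ ha₀, by rw [h1, map_pow]⟩
  · exact ⟨α (α a₀), h.inv _ (h.inv _ ha₀), by rw [h1, map_pow, map_pow]⟩

/-- The kernel of the top power is exactly the subgroup of squares. -/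
theorem mem_Sq_of_pow (S : Setup α V) (h : AbSub A α V) (e : Exp A n) {a : T} (ha : a ∈ A)
    (h1 : a ^ 2 ^ (n - 1) = 1) : a ∈ Sq A h.comm := by
  classical
  haveI := S.fin
  let P : ↥A →* T :=
    { toFun := fun x => x.1 ^ 2 ^ (n - 1)
      map_one' := by simp
      map_mul' := by
        intro x y
        exact comm_pow h.comm x.2 y.2 _ }
  have hran : Nat.card P.range = 4 := by
    rw [← S.card_V]
    apply Nat.card_congr
    refine ⟨fun x => ⟨x.1, ?_⟩, fun y => ⟨y.1, ?_⟩, ?_, ?_⟩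
    · obtain ⟨⟨b, hb⟩, hx⟩ := x.2
      rw [← hx]
      exact S.pow_mem_V e hb
    · obtain ⟨b, hb, hx⟩ := S.exists_pow_eq h e y.2
      exact ⟨⟨b, hb⟩, hx⟩
    · intro x; rfl
    · intro x; rfl
  -- `A²` inside the kernel
  have hle : (Sq A h.comm).subgroupOf A ≤ P.ker := by
    intro x hx
    rw [Subgroup.mem_subgroupOf] at hx
    obtain ⟨b, hb, hbx⟩ := hx
    rw [MonoidHom.mem_ker]
    change x.1 ^ 2 ^ (n - 1) = 1
    rw [← hbx, ← pow_two, ← pow_mul, ← pow_succ']
    have : n - 1 + 1 = n := by have := e.pos; omega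
    rw [this]
    exact e.top b hb
  have hcardP := P.ker.card_mul_index
  rw [Subgroup.index_ker, hran] at hcardP
  have hcardS := ((Sq A h.comm).subgroupOf A).card_mul_index
  have h5 : ((Sq A h.comm).subgroupOf A).index = 4 := S.relIndex_Sq h
  rw [h5] at hcardS
  have heq : (Sq A h.comm).subgroupOf A = P.ker := by
    apply Subgroup.eq_of_le_of_card_ge hle
    have : Nat.card P.ker * 4 = Nat.card ((Sq A h.comm).subgroupOf A) * 4 := by
      rw [hcardP, hcardS]
    have := Nat.eq_of_mul_eq_mul_right (by norm_num) this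
    omega
  have hmem : (⟨a, ha⟩ : ↥A) ∈ P.ker := by
    rw [MonoidHom.mem_ker]
    exact h1
  rw [← heq, Subgroup.mem_subgroupOf] at hmem
  exact hmem

/-- An element outside the squares has maximal order. -/
lemma pow_ne_one_of_not_mem (S : Setup α V) (h : AbSub A α V) (e : Exp A n) {a : T} (ha : a ∈ A)
    (h1 : a ∉ Sq A h.comm) : a ^ 2 ^ (n - 1) ≠ 1 := fun h2 => h1 (S.mem_Sq_of_pow h e ha h2)

/-- Elements are powers of elements outside the squares. -/
theorem exists_root (S : Setup α V) (h : AbSub A α V) (e : Exp A n) {a : T} (ha : a ∈ A) (h1 : a ≠ 1) :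
    ∃ d ∈ A, d ∉ Sq A h.comm ∧ ∃ i, a = d ^ 2 ^ i := by
  -- by descending induction on the exponent
  have key : ∀ j i : ℕ, n - i ≤ j → ∀ d ∈ A, a = d ^ 2 ^ i →
      ∃ d ∈ A, d ∉ Sq A h.comm ∧ ∃ i, a = d ^ 2 ^ i := by
    intro j
    induction j with
    | zero =>
      intro i hi d hd had
      exfalso
      apply h1
      have : i = n + (i - n) := by omega
      rw [had, this, pow_add, pow_mul, e.top d hd, one_pow]
    | succ j ih =>
      intro i hi d hd had
      by_cases hs : d ∈ Sq A h.comm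
      · obtain ⟨c, hc, rfl⟩ := hs
        apply ih (i + 1) (by omega) c hc
        rw [had, ← pow_two, ← pow_mul, pow_succ' 2 i]
      · exact ⟨d, hd, hs, i, had⟩
  exact key n 0 (by omega) a ha (by simp)

/-- **Lemma O.** -/
theorem exists_power_form (S : Setup α V) (h : AbSub A α V) (e : Exp A n) {a : T} (ha : a ∈ A)
    (h1 : a * a ≠ 1) : 2 ≤ n ∧ ∃ d ∈ A, d ∉ Sq A h.comm ∧ ∃ m, a ^ m = d ^ 2 ^ (n - 2) ∧
      a ^ (2 * m) = d ^ 2 ^ (n - 1) := by
  have ha1 : a ≠ 1 := by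
    rintro rfl
    simp at h1
  obtain ⟨d, hd, hds, i, hi⟩ := S.exists_root h e ha ha1
  have hin : i + 1 < n := by
    by_contra hc
    apply h1
    have : i + 1 = n + (i + 1 - n) := by omega
    rw [hi, ← pow_add, ← two_mul, ← pow_succ', this, pow_add, pow_mul, e.top d hd, one_pow]
  refine ⟨by omega, d, hd, hds, 2 ^ (n - 2 - i), ?_, ?_⟩
  · rw [hi, ← pow_mul, ← pow_add]
    congr 2
    omega
  · rw [hi, ← pow_mul, ← pow_succ', ← pow_add]
    congr 2
    omega

end Setup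

end Cfsg.Agent.Lib.TwoFusion.Hig
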