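import Cfsg.Agent.Lib.TwoFusion.Hig.Level

/-!
# The structure above a self-centralizing invariant abelian normal subgroup
-/

set_option autoImplicit false
set_option linter.unusedSectionVars false
set_option linter.unusedVariables false
set_option linter.style.haveILetI false

namespace Cfsg.Agent.Lib.TwoFusion.Hig

open scoped commutatorElement

variable {T : Type*} [Group T] {α : MulAut T} {V : Subgroup T}

namespace Setup

variable {A : Subgroup T} [hA : A.Normal] {n : ℕ}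

/-- Hypotheses of the analysis. -/
structure Ana (S : Setup α V) (A : Subgroup T) (n : ℕ) : Prop where
  ab : AbSub A α V
  e : Exp A n
  cen : ∀ t : T, (∀ a ∈ A, t * a = a * t) → t ∈ A

variable {S : Setup α V}

lemma Ana.Y0 (H : Ana S A n) {y : T} (hy : y ∈ Yk A 0) : y ∈ A := by
  apply H.cen
  intro a ha
  have := hy a ha
  rw [pow_zero, pow_one] at this
  exact commutatorElement_eq_one_iff_mul_comm.mp this

/-- (★) -/
theorem Ana.sq_mem_Sq (H : Ana S A n) {y : T} (hy : y ∉ A) (hy2 : y * y ∈ A) :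
    y * y ∈ Sq A H.ab.comm := by
  by_contra hs
  apply hy
  apply H.Y0
  have key : ∀ j, j ≤ n → y ∈ Yk A (n - j) := by
    intro j
    induction j with
    | zero =>
      intro _
      intro a ha
      rw [Nat.sub_zero, H.e.top a ha]
      simp [commutatorElement_def]
    | succ j ih =>
      intro hj
      have h1 := ih (by omega)
      have e1 : n - j = (n - (j + 1)) + 1 := by omega
      rw [e1] at h1
      apply S.level H.ab h1 hy2 hs
      rw [commutatorElement_eq_one_iff_mul_comm]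
      have hc : y * (y * y) = (y * y) * y := by group
      exact ((Commute.pow_right (show Commute y (y * y) from hc) _) : _)
  have := key n le_rfl
  rwa [Nat.sub_self] at this

/-- A homomorphism on `A` into `A²` with kernel `V` is onto `A²`. -/
lemma surj_of_ker (S : Setup α V) (h : AbSub A α V) (f : ↥A →* T) (hle : ∀ a : ↥A, f a ∈ Sq A h.comm)
    (hker : ∀ a : ↥A, f a = 1 ↔ a.1 ∈ V) {x : T} (hx : x ∈ Sq A h.comm) : ∃ a ∈ A, ∀ ha : a ∈ A, f ⟨a, ha⟩ = x := by
  classical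
  haveI := S.fin
  have hk : Nat.card f.ker = 4 := by
    rw [← S.card_V]
    apply Nat.card_congr
    refine ⟨fun a => ⟨a.1.1, (hker a.1).mp a.2⟩, fun v => ⟨⟨v.1, h.hV v.2⟩, ?_⟩, ?_, ?_⟩
    · rw [MonoidHom.mem_ker]
      exact (hker _).mpr v.2
    · intro a; rfl
    · intro v; rfl
  have h1 := f.ker.card_mul_index
  rw [Subgroup.index_ker, hk, S.card_A_eq h] at h1
  have h2 : Nat.card f.range = Nat.card (Sq A h.comm) := Nat.eq_of_mul_eq_mul_left (by norm_num) h1
  have hle' : f.range ≤ Sq A h.comm := by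
    rintro _ ⟨a, rfl⟩
    exact hle a
  have heq : f.range = Sq A h.comm := Subgroup.eq_of_le_of_card_ge hle' h2.ge
  rw [← heq] at hx
  obtain ⟨a, rfl⟩ := hx
  exact ⟨a.1, a.2, fun _ => rfl⟩

/-- `F4`: no element outside `A` with square in `A` centralizes the elements `a^(2^(n-2))`. -/
theorem Ana.not_mem_Yk (H : Ana S A n) {y : T} (hy : y ∉ A) (hy2 : y * y ∈ A) :
    y ∉ Yk A (n - 2) := by
  intro hY
  have hs := H.sq_mem_Sq hy hy2
  set z := y⁻¹ with hz
  have hzY : z ∈ Yk A (n - 2) := (Yk A (n - 2)).inv_mem hY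
  let f : ↥A →* T :=
    { toFun := fun a => (z * a.1 * z⁻¹) * a.1
      map_one' := by simp
      map_mul' := by
        intro a b
        simp only [Subgroup.coe_mul]
        have h1 : a.1 * (z * b.1 * z⁻¹) = (z * b.1 * z⁻¹) * a.1 :=
          H.ab.comm _ a.2 _ (hA.conj_mem _ b.2 z)
        have h2 : a.1 * b.1 = b.1 * a.1 := H.ab.comm _ a.2 _ b.2
        calc z * (a.1 * b.1) * z⁻¹ * (a.1 * b.1)
            = (z * a.1 * z⁻¹) * (z * b.1 * z⁻¹) * (a.1 * b.1) := by group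
          _ = (z * a.1 * z⁻¹) * (z * b.1 * z⁻¹) * (b.1 * a.1) := by rw [h2]
          _ = (z * a.1 * z⁻¹) * ((z * b.1 * z⁻¹) * b.1) * a.1 := by group
          _ = _ := by
            have h3 : ((z * b.1 * z⁻¹) * b.1) * a.1 = a.1 * ((z * b.1 * z⁻¹) * b.1) :=
              H.ab.comm _ (A.mul_mem (hA.conj_mem _ b.2 z) b.2) _ a.2
            rw [mul_assoc (z * a.1 * z⁻¹), h3]
            group }
  have hf : ∀ a : ↥A, f a = ⁅z, a.1⁆ * (a.1 * a.1) := by
    intro a
    simp only [commutatorElement_def]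
    change (z * a.1 * z⁻¹) * a.1 = _
    group
  have hle : ∀ a : ↥A, f a ∈ Sq A H.ab.comm := by
    intro a
    rw [hf]
    exact (Sq A H.ab.comm).mul_mem (S.cm_mem_Sq H.ab H.e z a.2) ⟨a.1, a.2, rfl⟩
  have hker : ∀ a : ↥A, f a = 1 ↔ a.1 ∈ V := by
    intro a
    constructor
    · intro h1
      by_contra hnV
      have hne : a.1 * a.1 ≠ 1 := fun h => hnV ((S.mem_V _).mpr h)
      obtain ⟨h2n, d, hd, hds, m, hm1, hm2⟩ := S.exists_power_form H.ab H.e a.2 hne
      have h1' : z * a.1 * z⁻¹ = a.1⁻¹ := eq_inv_of_mul_eq_one_left h1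
      have h3 : z * a.1 ^ m * z⁻¹ = (a.1 ^ m)⁻¹ := by
        have : z * a.1 ^ m * z⁻¹ = (z * a.1 * z⁻¹) ^ m := by
          rw [conj_pow]
        rw [this, h1', inv_pow]
      have h4 := hzY d hd
      rw [← hm1, commutatorElement_eq_one_iff_mul_comm] at h4
      have h5 : a.1 ^ m = (a.1 ^ m)⁻¹ := by
        rw [← h3, h4]
        group
      have h6 : a.1 ^ (2 * m) = 1 := by
        rw [two_mul, pow_add]
        nth_rewrite 1 [h5]
        group
      rw [hm2] at h6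
      exact S.pow_ne_one_of_not_mem H.ab H.e hd hds h6
    · intro h1
      have hc := S.central _ h1 z
      have h2 : z * a.1 * z⁻¹ = a.1 := by rw [← hc]; group
      change (z * a.1 * z⁻¹) * a.1 = 1
      rw [h2]
      exact (S.mem_V _).mp h1
  have hinvs : (y * y)⁻¹ ∈ Sq A H.ab.comm := (Sq A H.ab.comm).inv_mem hs
  obtain ⟨a, ha, hfa⟩ := surj_of_ker S H.ab f hle hker hinvs
  have h1 := hfa ha
  change (z * a * z⁻¹) * a = (y * y)⁻¹ at h1
  have h2 : (y * a) * (y * a) = 1 := by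
    have e1 : (y * a) * (y * a) = (y * y) * ((z * a * z⁻¹) * a) := by
      rw [hz]; group
    rw [e1, h1]
    group
  have h3 : y * a ∈ A := H.ab.hV ((S.mem_V _).mpr h2)
  apply hy
  have := A.mul_mem h3 (A.inv_mem ha)
  simpa using this

lemma exists_power_not_mem (S : Setup α V) (A : Subgroup T) {y : T} (hy : y ∉ A) :
    ∃ i, y ^ 2 ^ i ∉ A ∧ y ^ 2 ^ i * y ^ 2 ^ i ∈ A := by
  classical
  obtain ⟨k, hk⟩ := S.p2 y
  have hex : ∃ k, y ^ 2 ^ k ∈ A := ⟨k, by rw [hk]; exact A.one_mem⟩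
  have h0 : Nat.find hex ≠ 0 := by
    intro h0
    have := Nat.find_spec hex
    rw [h0] at this
    apply hy
    simpa using this
  obtain ⟨i, hi⟩ := Nat.exists_eq_succ_of_ne_zero h0
  refine ⟨i, Nat.find_min hex (by omega), ?_⟩
  have := Nat.find_spec hex
  rw [hi, pow_succ, pow_mul, pow_two] at this
  exact this

/-- `F5`. -/
theorem Ana.Yk_le (H : Ana S A n) : Yk A (n - 2) ≤ A := by
  intro y hY
  by_contra hy
  obtain ⟨i, hi, hi2⟩ := exists_power_not_mem S A hy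
  exact H.not_mem_Yk hi hi2 ((Yk A (n - 2)).pow_mem hY _)

lemma Ana.exists_not_Sq (H : Ana S A n) : ∃ e₀ ∈ A, e₀ ∉ Sq A H.ab.comm := by
  by_contra hc
  push Not at hc
  have h1 := S.relIndex_Sq H.ab
  rw [Subgroup.relIndex_eq_one.mpr hc] at h1
  omega

lemma Ana.mem_of_comm (H : Ana S A n) (hn : 2 ≤ n) {y e₀ : T} (he₀ : e₀ ∈ A)
    (hs : e₀ ∉ Sq A H.ab.comm) (hc : ⁅y, e₀ ^ 2 ^ (n - 2)⁆ = 1) : y ∈ A := by
  apply H.Yk_le
  apply S.level H.ab ?_ he₀ hs hc
  have : n - 2 + 1 = n - 1 := by omega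
  rw [this]
  exact S.Yk_top H.ab H.e y

lemma Ana.Ytop (H : Ana S A n) (hn : 2 ≤ n) (y : T) : y ∈ Yk A (n - 2 + 1) := by
  have : n - 2 + 1 = n - 1 := by omega
  rw [this]
  exact S.Yk_top H.ab H.e y

/-- `|T : A| ≤ 4`. -/
theorem Ana.index_le (H : Ana S A n) (hn : 2 ≤ n) : A.index ≤ 4 := by
  classical
  haveI := S.fin
  obtain ⟨e₀, he₀, hs⟩ := H.exists_not_Sq
  rw [← S.card_V]
  apply Cfsg.Agent.Lib.TwoFusion.SecRank.index_le_of_fun A
    (fun t => (⟨⁅t, e₀ ^ 2 ^ (n - 2)⁆, S.F_mem_V H.ab (H.Ytop hn t) he₀⟩ : ↥V))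
  intro r r' hrr
  have h1 : ⁅r, e₀ ^ 2 ^ (n - 2)⁆ = ⁅r', e₀ ^ 2 ^ (n - 2)⁆ := congrArg Subtype.val hrr
  apply H.mem_of_comm hn he₀ hs
  rw [S.F_mul_y H.ab _ (H.Ytop hn r') he₀, S.F_inv_y H.ab (H.Ytop hn r) he₀, h1]
  group

/-- Squares lie in `A`. -/
theorem Ana.sq_mem (H : Ana S A n) (hn : 2 ≤ n) (t : T) : t * t ∈ A := by
  obtain ⟨e₀, he₀, hs⟩ := H.exists_not_Sq
  apply H.mem_of_comm hn he₀ hs
  rw [S.F_mul_y H.ab _ (H.Ytop hn t) he₀]
  exact (S.mem_V _).mp (S.F_mem_V H.ab (H.Ytop hn t) he₀)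

/-- The action of elements outside `A` on the elements `a^(2^(n-2))`, for `n ≥ 3`. -/
theorem Ana.cm_eq (H : Ana S A n) (hn : 3 ≤ n) {y : T} (hy : y ∉ A) {c : T} (hc : c ∈ A) :
    ⁅y, c ^ 2 ^ (n - 2)⁆ = (c ^ 2 ^ (n - 2) * c ^ 2 ^ (n - 2))⁻¹ := by
  have hn2 : 2 ≤ n := by omega
  set b := c ^ 2 ^ (n - 2) with hb
  have hbA : b ∈ A := A.pow_mem hc _
  have hbS : b ∈ Sq A H.ab.comm := by
    refine ⟨c ^ 2 ^ (n - 3), A.pow_mem hc _, ?_⟩
    rw [← pow_two, ← pow_mul, ← pow_succ, hb]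
    congr 2
    omega
  let g : ↥A →* T :=
    { toFun := fun a => ⁅y, a.1⁆
      map_one' := by simp [commutatorElement_def]
      map_mul' := fun a b => cm_mul H.ab.comm y a.2 b.2 }
  have hle : ∀ a : ↥A, g a ∈ Sq A H.ab.comm := fun a => S.cm_mem_Sq H.ab H.e y a.2
  have hker : ∀ a : ↥A, g a = 1 ↔ a.1 ∈ V := by
    intro a
    constructor
    · intro h1
      by_contra hnV
      have hne : a.1 * a.1 ≠ 1 := fun h => hnV ((S.mem_V _).mpr h)
      obtain ⟨-, d, hd, hds, m, hm1, -⟩ := S.exists_power_form H.ab H.e a.2 hne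
      apply hy
      apply H.mem_of_comm hn2 hd hds
      rw [← hm1, cm_pow H.ab.comm y a.2]
      have : ⁅y, a.1⁆ = 1 := h1
      rw [this, one_pow]
    · exact fun h1 => S.cm_one_of_mem_V y h1
  obtain ⟨a, ha, hga⟩ := surj_of_ker S H.ab g hle hker hbS
  have h1 : ⁅y, a⁆ = b := hga ha
  have hyy : y * y ∈ A := H.sq_mem hn2 y
  have h2 : (y * y) * a = a * (y * y) := H.ab.comm _ hyy _ ha
  have h3 : y * a * y⁻¹ = b * a := by
    rw [← h1, commutatorElement_def]; group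
  have h4 : y * b * y⁻¹ = ⁅y, b⁆ * b := by
    rw [commutatorElement_def]; group
  have h5 : (y * y) * a * (y * y)⁻¹ = a := by rw [h2]; group
  have h6 : (y * y) * a * (y * y)⁻¹ = (⁅y, b⁆ * b) * (b * a) := by
    calc (y * y) * a * (y * y)⁻¹ = y * (y * a * y⁻¹) * y⁻¹ := by group
      _ = y * (b * a) * y⁻¹ := by rw [h3]
      _ = (y * b * y⁻¹) * (y * a * y⁻¹) := by group
      _ = (⁅y, b⁆ * b) * (b * a) := by rw [h3, h4]
  rw [h6] at h5
  have h7 : ⁅y, b⁆ * (b * b) = 1 := by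
    have : (⁅y, b⁆ * (b * b)) * a = 1 * a := by
      calc (⁅y, b⁆ * (b * b)) * a = (⁅y, b⁆ * b) * (b * a) := by group
        _ = a := h5
        _ = 1 * a := (one_mul a).symm
    exact mul_right_cancel this
  exact eq_inv_of_mul_eq_one_left h7

/-- If `A ≠ T` then `n = 2`. -/
theorem Ana.exp_eq_two (H : Ana S A n) (hn : 2 ≤ n) {y : T} (hy : y ∉ A) : n = 2 := by
  by_contra hne
  have hn3 : 3 ≤ n := by omega
  have hαy : α y ∉ A := fun h => hy (S.mem_of_map_mem A H.ab.inv h)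
  apply hy
  apply S.mem_of_fixed_mod A H.ab.inv
  apply H.Yk_le
  intro a ha
  rw [S.F_mul_y H.ab _ (H.Ytop hn (α y)) ha, S.F_inv_y H.ab (H.Ytop hn y) ha, H.cm_eq hn3 hy ha,
    H.cm_eq hn3 hαy ha]
  group

/-- The final form. -/
theorem Ana.final (H : Ana S A n) (hn : 2 ≤ n) (hne : A ≠ V) (hT : A ≠ ⊤) :
    Nat.card T = 64 ∧ (∀ z ∈ Subgroup.center T, z ∈ V) ∧ ∀ t : T, t * t ∈ V := by
  classical
  haveI := S.fin
  obtain ⟨y, hy⟩ : ∃ y, y ∉ A := by
    by_contra hc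
    push Not at hc
    apply hT
    rw [eq_top_iff]
    intro x _
    exact hc x
  have hn2 : n = 2 := H.exp_eq_two hn hy
  subst hn2
  have hcardA : Nat.card A = 16 := by
    have h1 := S.card_le 2 A H.ab.comm H.ab.inv H.e.top
    have h2 := S.card_A_eq H.ab
    have h3 : Nat.card V ≤ Nat.card (Sq A H.ab.comm) :=
      Subgroup.card_le_of_le (S.V_le_Sq H.ab hne)
    rw [S.card_V] at h3
    omega
  have hidx := H.index_le hn
  have hcardT : Nat.card T = A.index * 16 := by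
    rw [← hcardA, mul_comm]
    exact A.card_mul_index.symm
  obtain ⟨j, hj⟩ := S.card_eq_four_pow (⊤ : Subgroup T) (fun _ _ => Subgroup.mem_top _)
  rw [Subgroup.card_top, hcardT] at hj
  have hidx1 : A.index ≠ 1 := by
    intro h1
    exact hT (Subgroup.index_eq_one.mp h1)
  have hidx0 : A.index ≠ 0 := Subgroup.index_ne_zero_of_finite
  have hidx4 : A.index = 4 := by
    have hj3 : j ≤ 3 := by
      by_contra hc
      have : 4 ^ 4 ≤ 4 ^ j := Nat.pow_le_pow_right (by norm_num) (by omega)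
      omega
    interval_cases j <;> omega
  refine ⟨by rw [hcardT, hidx4], ?_, ?_⟩
  · intro z hz
    have hzA : z ∈ A := H.cen z (fun a _ => (Subgroup.mem_center_iff.mp hz a).symm)
    by_contra hnV
    have hne' : z * z ≠ 1 := fun h => hnV ((S.mem_V _).mpr h)
    obtain ⟨-, d, hd, hds, m, hm1, -⟩ := S.exists_power_form H.ab H.e hzA hne'
    apply hy
    apply H.mem_of_comm hn hd hds
    rw [← hm1, commutatorElement_eq_one_iff_mul_comm]
    exact (Commute.pow_right (show Commute y z from Subgroup.mem_center_iff.mp hz y) m).eq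
  · intro t
    rw [S.mem_V]
    have hS : ∀ x ∈ Sq A H.ab.comm, x * x = 1 := by
      rintro _ ⟨a, ha, rfl⟩
      have := H.e.top a ha
      calc a * a * (a * a) = a ^ 2 ^ 2 := by norm_num [pow_succ]; group
        _ = 1 := this
    by_cases ht : t ∈ A
    · exact hS _ ⟨t, ht, rfl⟩
    · exact hS _ (H.sq_mem_Sq ht (H.sq_mem hn t))

end Setup

end Cfsg.Agent.Lib.TwoFusion.Hig
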