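import Mathlib

/-!
# Two-groups of rank two with an automorphism transitive on the involutions: set-up
-/

set_option autoImplicit false
set_option linter.unusedSectionVars false
set_option linter.unusedVariables false

namespace Cfsg.Agent.Lib.TwoFusion.Hig

open scoped commutatorElement

variable {T : Type*} [Group T]

/-- Basic hypotheses: a `3`-element `α` of `Aut T` without non-trivial fixed points, `V` is the set of
solutions of `x² = 1` and a central subgroup of order `4`. -/
structure Setup (α : MulAut T) (V : Subgroup T) : Prop where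
  fin : Finite T
  p2 : IsPGroup 2 T
  three : ∃ a : ℕ, α ^ (3 ^ a) = 1
  fpf : ∀ x : T, α x = x → x = 1
  mem_V : ∀ x : T, x ∈ V ↔ x * x = 1
  card_V : Nat.card V = 4
  central : ∀ v ∈ V, ∀ t : T, v * t = t * v

variable {α : MulAut T} {V : Subgroup T}

namespace Setup

lemma pow_mem_of_inv (N : Subgroup T) (hN : ∀ n ∈ N, α n ∈ N) (k : ℕ) {x : T} (hx : x ∈ N) :
    (α ^ k) x ∈ N := by
  induction k with
  | zero => simpa using hx
  | succ k ih =>
    rw [pow_succ', MulAut.mul_apply]
    exact hN _ ih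

lemma mem_of_map_mem (S : Setup α V) (N : Subgroup T) (hN : ∀ n ∈ N, α n ∈ N) {x : T}
    (hx : α x ∈ N) : x ∈ N := by
  obtain ⟨a, ha⟩ := S.three
  have h1 := pow_mem_of_inv N hN (3 ^ a - 1) hx
  have h2 : (α ^ (3 ^ a - 1)) (α x) = (α ^ (3 ^ a)) x := by
    rw [← MulAut.mul_apply, ← pow_succ, Nat.sub_add_cancel (Nat.one_le_pow _ _ (by norm_num))]
  rw [h2, ha] at h1
  simpa using h1

lemma map_mem_iff (S : Setup α V) (N : Subgroup T) (hN : ∀ n ∈ N, α n ∈ N) (x : T) :
    α x ∈ N ↔ x ∈ N := ⟨S.mem_of_map_mem N hN, hN x⟩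

lemma map_V (S : Setup α V) {v : T} (hv : v ∈ V) : α v ∈ V := by
  rw [S.mem_V] at hv ⊢
  rw [← map_mul, hv, map_one]

lemma card_subgroup_coprime (S : Setup α V) (N : Subgroup T) : ¬ 3 ∣ Nat.card N := by
  haveI := S.fin
  have h : IsPGroup 2 N := S.p2.to_subgroup N
  obtain ⟨k, hk⟩ := IsPGroup.iff_card.mp h
  rw [hk]
  intro h3
  have := Nat.Prime.dvd_of_dvd_pow Nat.prime_three h3
  omega

/-- **Coprime action**: a coset fixed by `α` has a representative in the subgroup. -/
theorem mem_of_fixed_mod (S : Setup α V) (N : Subgroup T) (hN : ∀ n ∈ N, α n ∈ N) {x : T}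
    (hx : x⁻¹ * α x ∈ N) : x ∈ N := by
  classical
  haveI := S.fin
  haveI : Fintype T := Fintype.ofFinite T
  obtain ⟨a, ha⟩ := S.three
  let p : T → Prop := fun y => x⁻¹ * y ∈ N
  have hp : ∀ y, p (α.toEquiv y) ↔ p y := by
    intro y
    have e : x⁻¹ * α y = (x⁻¹ * α x) * α (x⁻¹ * y) := by
      simp [map_mul, mul_assoc]
    change x⁻¹ * α y ∈ N ↔ x⁻¹ * y ∈ N
    rw [e, N.mul_mem_cancel_left hx, S.map_mem_iff N hN]
  let σ : Equiv.Perm {y // p y} := Equiv.Perm.subtypePerm (α.toEquiv : Equiv.Perm T) hp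
  have hσ1 : ∀ y : {y // p y}, ((σ y : {y // p y}) : T) = α y.1 := fun y => rfl
  have hσ : σ ^ 3 ^ a = 1 := by
    have key : ∀ k (y : {y // p y}), (((σ ^ k) y : {y // p y}) : T) = (α ^ k) y.1 := by
      intro k y
      induction k with
      | zero => simp
      | succ k ih =>
        rw [pow_succ', pow_succ', MulAut.mul_apply, Equiv.Perm.mul_apply, hσ1, ih]
    ext y
    rw [key, ha]
    simp
  have hcard : Nat.card {y // p y} = Nat.card N := by
    apply Nat.card_congr
    refine ⟨fun y => ⟨x⁻¹ * y.1, y.2⟩, fun n => ⟨x * n.1, ?_⟩, ?_, ?_⟩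
    · change x⁻¹ * (x * n.1) ∈ N
      simp
    · intro y; simp
    · intro n; simp
  haveI : Fact (Nat.Prime 3) := ⟨Nat.prime_three⟩
  have hα : ¬ 3 ∣ Fintype.card {y // p y} := by
    rw [← Nat.card_eq_fintype_card, hcard]
    exact S.card_subgroup_coprime N
  obtain ⟨y, hy⟩ := Equiv.Perm.exists_fixed_point_of_prime hα hσ
  have h1 : α y.1 = y.1 := by
    rw [← hσ1, hy]
  have h2 := S.fpf _ h1
  have h3 : x⁻¹ * y.1 ∈ N := y.2
  rw [h2, mul_one] at h3
  simpa using N.inv_mem h3

/-- Every `α`-invariant subgroup has order a power of `4`. -/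
theorem card_eq_four_pow (S : Setup α V) (U : Subgroup T) (hU : ∀ u ∈ U, α u ∈ U) :
    ∃ j : ℕ, Nat.card U = 4 ^ j := by
  classical
  haveI := S.fin
  haveI : Fintype U := Fintype.ofFinite U
  obtain ⟨a, ha⟩ := S.three
  obtain ⟨k, hk⟩ := IsPGroup.iff_card.mp (S.p2.to_subgroup U)
  let f : Function.End U := fun u => ⟨α u.1, hU _ u.2⟩
  have hf : f ^ 3 ^ a = 1 := by
    have key : ∀ k (y : U), ((f ^ k) y : T) = (α ^ k) y.1 := by
      intro k y
      induction k with
      | zero => rfl
      | succ k ih =>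
        rw [pow_succ', pow_succ', MulAut.mul_apply]
        change α ((f ^ k) y : T) = _
        rw [ih]
    funext y
    apply Subtype.ext
    rw [key, ha]
    rfl
  haveI : Fact (Nat.Prime 3) := ⟨Nat.prime_three⟩
  have h := Equiv.Perm.card_fixedPoints_modEq (p := 3) hf
  have hfix : Fintype.card (Function.fixedPoints f) = 1 := by
    rw [Fintype.card_eq_one_iff]
    refine ⟨⟨1, ?_⟩, ?_⟩
    · apply Subtype.ext
      simp [f]
    · rintro ⟨y, hy⟩
      apply Subtype.ext
      apply Subtype.ext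
      have : α y.1 = y.1 := congrArg Subtype.val hy
      simpa using S.fpf _ this
  rw [hfix, ← Nat.card_eq_fintype_card, hk] at h
  obtain ⟨j, hj | hj⟩ := Nat.even_or_odd' k
  · refine ⟨j, ?_⟩
    rw [hk, hj, pow_mul]
    norm_num
  · exfalso
    rw [hj, pow_succ, pow_mul] at h
    norm_num at h
    have h4 : 4 ^ j % 3 = 1 := by
      simp [Nat.pow_mod]
    have : (4 ^ j * 2) % 3 = 1 % 3 := h
    rw [Nat.mul_mod, h4] at this
    norm_num at this

/-- Structure of `V`. -/
lemma ne_of_ne_one (S : Setup α V) {v : T} (hv : v ∈ V) (h1 : v ≠ 1) :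
    α v ≠ v ∧ α (α v) ≠ v ∧ α (α v) ≠ α v := by
  have a1 : α v ≠ v := fun h => h1 (S.fpf _ h)
  have hvv : v * v = 1 := (S.mem_V v).mp hv
  have hav : α v ∈ V := S.map_V hv
  have a2 : α (α v) ≠ v := by
    intro h
    have hc := S.central _ hav v
    have h3 : α (v * α v) = v * α v := by
      rw [map_mul, h, hc]
    have h4 := S.fpf _ h3
    apply a1
    have : v⁻¹ = α v := (inv_eq_of_mul_eq_one_right h4)
    rw [← this]
    exact inv_eq_of_mul_eq_one_left hvv
  refine ⟨a1, a2, fun h => a1 (α.injective h)⟩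

lemma V_cases (S : Setup α V) {v : T} (hv : v ∈ V) (h1 : v ≠ 1) {w : T} (hw : w ∈ V) :
    w = 1 ∨ w = v ∨ w = α v ∨ w = α (α v) := by
  classical
  haveI := S.fin
  haveI : Fintype V := Fintype.ofFinite V
  obtain ⟨a1, a2, a3⟩ := S.ne_of_ne_one hv h1
  have hav : α v ∈ V := S.map_V hv
  have haav : α (α v) ∈ V := S.map_V hav
  have hav1 : α v ≠ 1 := by
    intro h; apply h1; apply α.injective; rw [h, map_one]
  have haav1 : α (α v) ≠ 1 := by
    intro h; apply hav1; apply α.injective; rw [h, map_one]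
  let s : Finset V := {1, ⟨v, hv⟩, ⟨α v, hav⟩, ⟨α (α v), haav⟩}
  have hs : s.card = 4 := by
    rw [Finset.card_insert_of_notMem, Finset.card_insert_of_notMem, Finset.card_insert_of_notMem,
      Finset.card_singleton]
    · simp only [Finset.mem_singleton, Subtype.mk.injEq]
      exact a3.symm
    · simp only [Finset.mem_insert, Finset.mem_singleton, Subtype.mk.injEq, not_or]
      exact ⟨a1.symm, a2.symm⟩
    · simp only [Finset.mem_insert, Finset.mem_singleton, not_or]
      refine ⟨?_, ?_, ?_⟩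
      · intro h; exact h1 (congrArg Subtype.val h).symm
      · intro h; exact hav1 (congrArg Subtype.val h).symm
      · intro h; exact haav1 (congrArg Subtype.val h).symm
  have hu : s = Finset.univ := by
    apply Finset.eq_univ_of_card
    rw [hs, ← Nat.card_eq_fintype_card, S.card_V]
  have : (⟨w, hw⟩ : V) ∈ s := by rw [hu]; exact Finset.mem_univ _
  simp only [s, Finset.mem_insert, Finset.mem_singleton, Subtype.mk.injEq] at this
  rcases this with h | h | h | h
  · left; exact congrArg Subtype.val h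
  · exact Or.inr (Or.inl h)
  · exact Or.inr (Or.inr (Or.inl h))
  · exact Or.inr (Or.inr (Or.inr h))

lemma V_prod (S : Setup α V) {v : T} (hv : v ∈ V) : v * α v * α (α v) = 1 := by
  by_cases h1 : v = 1
  · simp [h1]
  obtain ⟨a1, a2, a3⟩ := S.ne_of_ne_one hv h1
  have hav : α v ∈ V := S.map_V hv
  have haav : α (α v) ∈ V := S.map_V hav
  have hvv : v * v = 1 := (S.mem_V v).mp hv
  have havv : α v * α v = 1 := (S.mem_V _).mp hav
  have haavv : α (α v) * α (α v) = 1 := (S.mem_V _).mp haav
  have hw : v * α v ∈ V := V.mul_mem hv hav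
  rcases S.V_cases hv h1 hw with h | h | h | h
  · exfalso
    apply a1
    rw [← inv_eq_of_mul_eq_one_right h]
    exact inv_eq_of_mul_eq_one_left hvv
  · exfalso
    have : α v = 1 := by
      have h' : v * α v = v * 1 := by rw [h, mul_one]
      exact mul_left_cancel h'
    apply h1
    apply α.injective
    rw [this, map_one]
  · exfalso
    have : v = 1 := by
      have h' : v * α v = 1 * α v := by rw [h, one_mul]
      exact mul_right_cancel h'
    exact h1 this
  · rw [h, haavv]

lemma V_third (S : Setup α V) {v : T} (hv : v ∈ V) : α (α v) = v * α v := by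
  have h := S.V_prod hv
  have hav : α v ∈ V := S.map_V hv
  have hvv : v * v = 1 := (S.mem_V v).mp hv
  have havv : α v * α v = 1 := (S.mem_V _).mp hav
  have : (v * α v) * (v * α v) = 1 := by
    have hc := S.central _ hav v
    calc (v * α v) * (v * α v) = v * (α v * v) * α v := by group
      _ = v * (v * α v) * α v := by rw [hc]
      _ = (v * v) * (α v * α v) := by group
      _ = 1 := by rw [hvv, havv, one_mul]
  have h2 : (v * α v) * α (α v) = (v * α v) * (v * α v) := by rw [h, this]
  exact mul_left_cancel h2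

/-- `α³` is trivial on `V`. -/
lemma V_cube (S : Setup α V) {v : T} (hv : v ∈ V) : α (α (α v)) = v := by
  have hav : α v ∈ V := S.map_V hv
  have haav : α (α v) ∈ V := S.map_V hav
  have h1 := S.V_third hav
  have h2 := S.V_prod hv
  rw [h1]
  have h3 := S.V_third hv
  rw [h3] at h2 ⊢
  have hvv : v * v = 1 := (S.mem_V v).mp hv
  have havv : α v * α v = 1 := (S.mem_V _).mp hav
  have e : α v * (v * α v) = v * (α v * α v) := by
    have hc := S.central _ hav v
    calc α v * (v * α v) = (α v * v) * α v := by group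
      _ = (v * α v) * α v := by rw [hc]
      _ = v * (α v * α v) := by group
  rw [e, havv, mul_one]

/-- Existence of elements of `V` in non-trivial subgroups. -/
lemma exists_mem_V (S : Setup α V) (U : Subgroup T) (hU : U ≠ ⊥) :
    ∃ v ∈ U, v ∈ V ∧ v ≠ 1 := by
  classical
  haveI := S.fin
  obtain ⟨u, hu, hu1⟩ : ∃ u ∈ U, u ≠ 1 := by
    by_contra hc
    push Not at hc
    apply hU
    rw [eq_bot_iff]
    intro x hx
    exact Subgroup.mem_bot.mpr (hc x hx)
  obtain ⟨k, hk⟩ := S.p2 u
  obtain ⟨m, -, hm⟩ := (Nat.dvd_prime_pow Nat.prime_two).mp (orderOf_dvd_of_pow_eq_one hk)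
  have hm0 : m ≠ 0 := by
    rintro rfl
    apply hu1
    rw [pow_zero] at hm
    exact orderOf_eq_one_iff.mp hm
  obtain ⟨n, rfl⟩ := Nat.exists_eq_succ_of_ne_zero hm0
  refine ⟨u ^ 2 ^ n, U.pow_mem hu _, ?_, ?_⟩
  · rw [S.mem_V, ← pow_add, ← two_mul, ← pow_succ', ← hm]
    exact pow_orderOf_eq_one u
  · apply pow_ne_one_of_lt_orderOf (by positivity)
    rw [hm, pow_succ]
    have : 0 < 2 ^ n := by positivity
    omega

lemma V_le_of_invariant (S : Setup α V) (U : Subgroup T) (hU : U ≠ ⊥) (hinv : ∀ u ∈ U, α u ∈ U) :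
    V ≤ U := by
  obtain ⟨v, hvU, hvV, hv1⟩ := S.exists_mem_V U hU
  intro w hw
  rcases S.V_cases hvV hv1 hw with h | h | h | h
  · rw [h]; exact U.one_mem
  · rw [h]; exact hvU
  · rw [h]; exact hinv _ hvU
  · rw [h]; exact hinv _ (hinv _ hvU)

end Setup

end Cfsg.Agent.Lib.TwoFusion.Hig
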