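import Mathlib

/-!
# Central extensions of elementary abelian two-groups are determined by their squaring map
-/

set_option autoImplicit false
set_option linter.unusedSectionVars false
set_option linter.unusedVariables false
set_option linter.style.haveILetI false

namespace Cfsg.Agent.Lib.TwoFusion.Hig

open scoped commutatorElement

variable {T₁ T₂ E : Type*} [Group T₁] [Group T₂] [Group E]

section

variable {G : Type*} [Group G] {Z : Subgroup G}

lemma sq_mul_of_central (hc : ∀ v ∈ Z, ∀ x : G, v * x = x * v) {x y : G} (h : ⁅y, x⁆ ∈ Z) :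
    (x * y) * (x * y) = (x * x) * (y * y) * ⁅y, x⁆ := by
  have hc' := hc _ h
  have e : y * x = ⁅y, x⁆ * (x * y) := by
    rw [commutatorElement_def]; group
  calc (x * y) * (x * y) = x * (y * x) * y := by group
    _ = x * (⁅y, x⁆ * (x * y)) * y := by rw [← e]
    _ = (x * ⁅y, x⁆) * (x * y) * y := by group
    _ = (⁅y, x⁆ * x) * (x * y) * y := by rw [hc' x]
    _ = ⁅y, x⁆ * ((x * x) * (y * y)) := by group
    _ = (x * x) * (y * y) * ⁅y, x⁆ := by rw [hc']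

end

/-- **Uniqueness of central extensions with a given squaring map.** -/
theorem iso_of_quadratic [Finite T₁] [Finite T₂] (π₁ : T₁ →* E) (π₂ : T₂ →* E)
    (h₁ : Function.Surjective π₁) (h₂ : Function.Surjective π₂) (θ : π₁.ker ≃* π₂.ker)
    (hc₁ : ∀ v ∈ π₁.ker, ∀ x : T₁, v * x = x * v) (hc₂ : ∀ v ∈ π₂.ker, ∀ x : T₂, v * x = x * v)
    (hq : ∀ (x₁ : T₁) (x₂ : T₂), π₁ x₁ = π₂ x₂ →
      ∃ h : x₁ * x₁ ∈ π₁.ker, ((θ ⟨x₁ * x₁, h⟩ : π₂.ker) : T₂) = x₂ * x₂) :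
    Nonempty (T₁ ≃* T₂) := by
  classical
  -- `E` has exponent two
  have hE2 : ∀ e : E, e * e = 1 := by
    intro e
    obtain ⟨x₁, rfl⟩ := h₁ e
    obtain ⟨x₂, hx₂⟩ := h₂ (π₁ x₁)
    obtain ⟨h, -⟩ := hq x₁ x₂ hx₂.symm
    rw [← map_mul]
    exact h
  have hEc : ∀ a b : E, a * b = b * a := by
    intro a b
    have h := hE2 (a * b)
    calc a * b = a * b * (b * a) * (b * a)⁻¹ := by group
      _ = (a * (b * b) * a) * (b * a)⁻¹ := by group
      _ = (b * a)⁻¹ := by rw [hE2 b, mul_one, hE2 a, one_mul]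
      _ = b * a := inv_eq_of_mul_eq_one_right (by
        calc (b * a) * (b * a) = 1 := hE2 _)
  have hcm₁ : ∀ x y : T₁, ⁅x, y⁆ ∈ π₁.ker := by
    intro x y
    rw [MonoidHom.mem_ker, map_commutatorElement, commutatorElement_eq_one_iff_mul_comm]
    exact hEc _ _
  have hcm₂ : ∀ x y : T₂, ⁅x, y⁆ ∈ π₂.ker := by
    intro x y
    rw [MonoidHom.mem_ker, map_commutatorElement, commutatorElement_eq_one_iff_mul_comm]
    exact hEc _ _
  have hsq₁ : ∀ x : T₁, x * x ∈ π₁.ker := by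
    intro x
    rw [MonoidHom.mem_ker, map_mul]
    exact hE2 _
  -- commutators correspond
  have hcomm : ∀ (x₁ y₁ : T₁) (x₂ y₂ : T₂), π₁ x₁ = π₂ x₂ → π₁ y₁ = π₂ y₂ →
      ((θ ⟨⁅y₁, x₁⁆, hcm₁ _ _⟩ : π₂.ker) : T₂) = ⁅y₂, x₂⁆ := by
    intro x₁ y₁ x₂ y₂ hx hy
    obtain ⟨h1, h2⟩ := hq x₁ x₂ hx
    obtain ⟨h3, h4⟩ := hq y₁ y₂ hy
    obtain ⟨h5, h6⟩ := hq (x₁ * y₁) (x₂ * y₂) (by rw [map_mul, map_mul, hx, hy])
    rw [sq_mul_of_central hc₂ (hcm₂ _ _)] at h6
    have e : (⟨x₁ * y₁ * (x₁ * y₁), h5⟩ : π₁.ker) =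
        ⟨x₁ * x₁, h1⟩ * ⟨y₁ * y₁, h3⟩ * ⟨⁅y₁, x₁⁆, hcm₁ _ _⟩ :=
      Subtype.ext (sq_mul_of_central hc₁ (hcm₁ _ _))
    rw [e, map_mul, map_mul] at h6
    simp only [Subgroup.coe_mul] at h6
    rw [h2, h4] at h6
    exact mul_left_cancel h6
  -- the family of partial graphs
  let Fam : Subgroup (T₁ × T₂) → Prop := fun L =>
    (∀ p ∈ L, π₁ p.1 = π₂ p.2) ∧ (∀ v : π₁.ker, (v.1, (θ v).1) ∈ L) ∧
      ∀ p ∈ L, ∀ h : p.1 ∈ π₁.ker, p.2 = (θ ⟨p.1, h⟩).1
  let Δ : Subgroup (T₁ × T₂) :=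
    (MonoidHom.prod π₁.ker.subtype (π₂.ker.subtype.comp θ.toMonoidHom)).range
  have hΔ : Fam Δ := by
    refine ⟨?_, ?_, ?_⟩
    · rintro _ ⟨v, rfl⟩
      have h1 : π₁ v.1 = 1 := v.2
      have h2 : π₂ (θ v).1 = 1 := (θ v).2
      change π₁ v.1 = π₂ (θ v).1
      rw [h1, h2]
    · intro v
      exact ⟨v, rfl⟩
    · rintro _ ⟨v, rfl⟩ h
      rfl
  have hfin : (Set.univ : Set (Subgroup (T₁ × T₂))).Finite := Set.toFinite _
  obtain ⟨L, hL, hmax⟩ : ∃ L, Fam L ∧ ∀ L', Fam L' → Nat.card L' ≤ Nat.card L := by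
    have hne : ({L | Fam L} : Set (Subgroup (T₁ × T₂))).Nonempty := ⟨Δ, hΔ⟩
    obtain ⟨L, hL, hm⟩ := Set.exists_max_image _ (fun L : Subgroup (T₁ × T₂) => Nat.card L)
      (Set.toFinite _) hne
    exact ⟨L, hL, fun L' h' => hm L' h'⟩
  obtain ⟨hLa, hLb, hLc⟩ := hL
  -- conjugation by elements of the fibre product preserves `L`
  have hconj : ∀ k : T₁ × T₂, π₁ k.1 = π₂ k.2 → ∀ l ∈ L, k * l * k⁻¹ ∈ L := by
    intro k hk l hl
    have h1 := hcomm l.1 k.1 l.2 k.2 (hLa l hl) hk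
    have h2 := hLb ⟨⁅k.1, l.1⁆, hcm₁ _ _⟩
    rw [h1] at h2
    have e : k * l * k⁻¹ = (⁅k.1, l.1⁆, ⁅k.2, l.2⁆) * l := by
      ext <;> simp [commutatorElement_def]
    rw [e]
    exact L.mul_mem h2 hl
  -- the projection to `T₁` is onto
  have hsurj₁ : ∀ x₁ : T₁, ∃ x₂ : T₂, (x₁, x₂) ∈ L := by
    by_contra hcon
    push Not at hcon
    obtain ⟨x₁, hx₁⟩ := hcon
    obtain ⟨x₂, hx₂⟩ := h₂ (π₁ x₁)
    let k : T₁ × T₂ := (x₁, x₂)
    have hk : π₁ k.1 = π₂ k.2 := hx₂.symm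
    have hkL : k ∉ L := hx₁ x₂
    have hkinv : π₁ k⁻¹.1 = π₂ k⁻¹.2 := by
      simp [hk]
    have hk2 : k * k ∈ L := by
      obtain ⟨h, hh⟩ := hq x₁ x₂ hx₂.symm
      have := hLb ⟨x₁ * x₁, h⟩
      rw [hh] at this
      exact this
    have hk2' : k⁻¹ * k⁻¹ ∈ L := by
      have : k⁻¹ * k⁻¹ = (k * k)⁻¹ := by group
      rw [this]
      exact L.inv_mem hk2
    have hc1 : ∀ l ∈ L, k⁻¹ * l * k ∈ L := by
      intro l hl
      have := hconj k⁻¹ hkinv l hl
      simpa using this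
    have hc2 : ∀ l ∈ L, k * l * k⁻¹ ∈ L := hconj k hk
    let L' : Subgroup (T₁ × T₂) :=
      { carrier := {p | p ∈ L ∨ k⁻¹ * p ∈ L}
        one_mem' := Or.inl L.one_mem
        mul_mem' := by
          rintro a b (ha | ha) (hb | hb)
          · exact Or.inl (L.mul_mem ha hb)
          · right
            have e : k⁻¹ * (a * b) = (k⁻¹ * a * k) * (k⁻¹ * b) := by group
            rw [e]
            exact L.mul_mem (hc1 a ha) hb
          · right
            have e : k⁻¹ * (a * b) = (k⁻¹ * a) * b := by group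
            rw [e]
            exact L.mul_mem ha hb
          · left
            have e : a * b = (k * k) * (k⁻¹ * (k⁻¹ * a) * k) * (k⁻¹ * b) := by group
            rw [e]
            exact L.mul_mem (L.mul_mem hk2 (hc1 _ ha)) hb
        inv_mem' := by
          rintro a (ha | ha)
          · exact Or.inl (L.inv_mem ha)
          · right
            have e : k⁻¹ * a⁻¹ = (k⁻¹ * k⁻¹) * (k * (k⁻¹ * a)⁻¹ * k⁻¹) := by group
            rw [e]
            exact L.mul_mem hk2' (hc2 _ (L.inv_mem ha)) }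
    have hLL' : L ≤ L' := fun p hp => Or.inl hp
    have hkL' : k ∈ L' := Or.inr (by simp [L.one_mem])
    have hF : Fam L' := by
      refine ⟨?_, fun v => hLL' (hLb v), ?_⟩
      · rintro p (hp | hp)
        · exact hLa p hp
        · have h1 := hLa _ hp
          simp only [Prod.fst_mul, Prod.snd_mul, Prod.fst_inv, Prod.snd_inv, map_mul, map_inv, hk] at h1
          exact mul_left_cancel h1
      · rintro p (hp | hp) h
        · exact hLc p hp h
        · exfalso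
          -- `x₁` would be in the projection of `L`
          apply hx₁ ((θ ⟨p.1, h⟩).1 * (p.2⁻¹ * x₂))
          have h1 := L.mul_mem (hLb ⟨p.1, h⟩) (L.inv_mem hp)
          have e : ((p.1, (θ ⟨p.1, h⟩).1) : T₁ × T₂) * (k⁻¹ * p)⁻¹ = (x₁, (θ ⟨p.1, h⟩).1 * (p.2⁻¹ * x₂)) := by
            ext
            · simp [k]
            · simp [k]
          rw [e] at h1
          exact h1
    have := hmax L' hF
    have heq : L = L' := Subgroup.eq_of_le_of_card_ge hLL' this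
    rw [← heq] at hkL'
    exact hkL hkL'
  have hinj₁ : ∀ w : T₂, ((1 : T₁), w) ∈ L → w = 1 := by
    intro w hw
    have h1 : w = (θ ⟨1, π₁.ker.one_mem⟩).1 := hLc _ hw π₁.ker.one_mem
    rw [h1]
    have : (⟨1, π₁.ker.one_mem⟩ : π₁.ker) = 1 := rfl
    simp only [this, map_one]
    rfl
  let φ₁ : ↥L →* T₁ := (MonoidHom.fst T₁ T₂).comp L.subtype
  let φ₂ : ↥L →* T₂ := (MonoidHom.snd T₁ T₂).comp L.subtype
  have hb₁ : Function.Bijective φ₁ := by
    constructor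
    · rw [injective_iff_map_eq_one]
      rintro ⟨⟨a, b⟩, hab⟩ h
      have ha : a = 1 := h
      subst ha
      have hb := hinj₁ b hab
      subst hb
      rfl
    · intro x₁
      obtain ⟨x₂, hx₂⟩ := hsurj₁ x₁
      exact ⟨⟨(x₁, x₂), hx₂⟩, rfl⟩
  have hb₂ : Function.Bijective φ₂ := by
    constructor
    · rw [injective_iff_map_eq_one]
      rintro ⟨⟨a, b⟩, hab⟩ h
      have hb : b = 1 := h
      subst hb
      have ha1 := hLa _ hab
      have ha : a ∈ π₁.ker := by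
        rw [MonoidHom.mem_ker]
        simpa using ha1
      have h2 := hLc _ hab ha
      have h3 : (θ ⟨a, ha⟩) = 1 := Subtype.ext h2.symm
      have h4 : (⟨a, ha⟩ : π₁.ker) = 1 := by
        rw [← map_eq_one_iff θ θ.injective]
        exact h3
      have h5 : a = 1 := congrArg Subtype.val h4
      subst h5
      rfl
    · intro x₂
      obtain ⟨x₁, hx₁⟩ := h₁ (π₂ x₂)
      obtain ⟨y₂, hy₂⟩ := hsurj₁ x₁
      have h1 := hLa _ hy₂
      have h2 : y₂⁻¹ * x₂ ∈ π₂.ker := by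
        rw [MonoidHom.mem_ker, map_mul, map_inv]
        simp only at h1
        rw [← h1, hx₁]
        group
      let v := θ.symm ⟨y₂⁻¹ * x₂, h2⟩
      have h3 := hLb v
      have h4 : (θ v).1 = y₂⁻¹ * x₂ := by
        simp [v]
      rw [h4] at h3
      refine ⟨⟨(x₁, y₂) * (v.1, y₂⁻¹ * x₂), L.mul_mem hy₂ h3⟩, ?_⟩
      change y₂ * (y₂⁻¹ * x₂) = x₂
      group
  exact ⟨(MulEquiv.ofBijective φ₁ hb₁).symm.trans (MulEquiv.ofBijective φ₂ hb₂)⟩

end Cfsg.Agent.Lib.TwoFusion.Hig
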