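import Cfsg.Agent.Lib.TwoFusion.Hig.Cube
import Cfsg.Agent.Lib.TwoFusion.Hig.IsoLemma

/-!
# Commutators in the non-abelian case
-/

set_option autoImplicit false
set_option linter.unusedSectionVars false
set_option linter.unusedVariables false
set_option linter.style.haveILetI false

namespace Cfsg.Agent.Lib.TwoFusion.Hig

open scoped commutatorElement

variable {T : Type*} [Group T] {α : MulAut T} {V : Subgroup T}

namespace Setup

/-- Hypotheses of the non-abelian case. -/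
structure NA (S : Setup α V) : Prop where
  card : Nat.card T = 64
  cen : ∀ z ∈ Subgroup.center T, z ∈ V
  sq : ∀ t : T, t * t ∈ V

variable {S : Setup α V}

lemma NA.cube (H : NA S) (t : T) : α (α (α t)) = t := S.cube_eq H.card H.sq t

lemma sq_sq_one (S : Setup α V) {v : T} (hv : v ∈ V) : v * v = 1 := (S.mem_V v).mp hv

lemma V_inv (S : Setup α V) {v : T} (hv : v ∈ V) : v⁻¹ = v :=
  inv_eq_of_mul_eq_one_left ((S.mem_V v).mp hv)

lemma V_comm (S : Setup α V) {v : T} (hv : v ∈ V) (t : T) : v * t = t * v := S.central v hv t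

lemma NA.cm_mem (H : NA S) (s t : T) : ⁅s, t⁆ ∈ V := by
  rw [commutatorElement_def]
  have h1 := H.sq (s * t)
  have h2 := V.inv_mem (H.sq s)
  have h3 := V.inv_mem (H.sq t)
  have e : s * t * s⁻¹ * t⁻¹ = (s * t) * (s * t) * (t⁻¹ * (s * s)⁻¹ * t) * (t * t)⁻¹ := by group
  rw [e]
  have h4 : t⁻¹ * (s * s)⁻¹ * t = (s * s)⁻¹ := by
    rw [mul_assoc, S.central _ h2 t]
    group
  rw [h4]
  exact V.mul_mem (V.mul_mem h1 h2) h3

lemma NA.cm_mul_left (H : NA S) (s t w : T) : ⁅s * t, w⁆ = ⁅s, w⁆ * ⁅t, w⁆ := by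
  have hc := S.central _ (H.cm_mem t w) s
  rw [commutatorElement_def] at hc
  simp only [commutatorElement_def]
  set c := t * w * t⁻¹ * w⁻¹ with hcdef
  have e1 : t * w * t⁻¹ = c * w := by rw [hcdef]; group
  have hcw := S.central _ (H.cm_mem s w) c
  rw [commutatorElement_def] at hcw
  calc (s * t) * w * (s * t)⁻¹ * w⁻¹ = s * (t * w * t⁻¹) * s⁻¹ * w⁻¹ := by group
    _ = s * (c * w) * s⁻¹ * w⁻¹ := by rw [e1]
    _ = (s * c) * w * s⁻¹ * w⁻¹ := by group
    _ = (c * s) * w * s⁻¹ * w⁻¹ := by rw [hc]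
    _ = c * (s * w * s⁻¹ * w⁻¹) := by group
    _ = (s * w * s⁻¹ * w⁻¹) * c := hcw.symm

lemma NA.cm_symm (H : NA S) (s t : T) : ⁅s, t⁆ = ⁅t, s⁆ := by
  have h := S.V_inv (H.cm_mem s t)
  rw [commutatorElement_inv] at h
  exact h.symm

lemma NA.cm_mul_right (H : NA S) (w s t : T) : ⁅w, s * t⁆ = ⁅w, s⁆ * ⁅w, t⁆ := by
  rw [H.cm_symm, H.cm_mul_left, H.cm_symm s, H.cm_symm t]

lemma NA.cm_of_mem_left (H : NA S) {v : T} (hv : v ∈ V) (t : T) : ⁅v, t⁆ = 1 :=
  commutatorElement_eq_one_iff_mul_comm.mpr (S.central v hv t)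

lemma NA.cm_of_mem_right (H : NA S) (t : T) {v : T} (hv : v ∈ V) : ⁅t, v⁆ = 1 :=
  commutatorElement_eq_one_iff_mul_comm.mpr (S.central v hv t).symm

lemma NA.cm_map (H : NA S) (s t : T) : α ⁅s, t⁆ = ⁅α s, α t⁆ := map_commutatorElement α s t

lemma NA.sq_mul (H : NA S) (s t : T) : (s * t) * (s * t) = (s * s) * (t * t) * ⁅t, s⁆ :=
  sq_mul_of_central S.central (H.cm_mem t s)

lemma NA.trace_mem (H : NA S) (t : T) : t * α t * α (α t) ∈ V := by
  apply S.mem_of_fixed_mod V (fun u hu => S.map_V hu)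
  set w := t * α t * α (α t) with hw
  have e1 : α w = t⁻¹ * w * t := by
    rw [hw, map_mul, map_mul, H.cube]
    group
  rw [e1]
  have := H.cm_mem w⁻¹ t⁻¹
  rw [commutatorElement_def] at this
  simpa [mul_assoc] using this

lemma NA.cm_self_map (H : NA S) (t : T) : ⁅t, α t⁆ = 1 := by
  have hw := H.trace_mem t
  have h1 : (t * α t * α (α t)) * (t * α t * α (α t)) = 1 := (S.mem_V _).mp hw
  rw [H.sq_mul, H.sq_mul] at h1
  -- squares
  have hq : (t * t) * (α t * α t) * (α (α t) * α (α t)) = 1 := by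
    have := S.V_prod (H.sq t)
    simpa [map_mul] using this
  have hcw : ⁅t * α t * α (α t), t⁆ = 1 := H.cm_of_mem_left hw t
  rw [H.cm_mul_left, H.cm_mul_left] at hcw
  have hself : ⁅t, t⁆ = 1 := commutatorElement_self t
  rw [hself, one_mul] at hcw
  rw [H.cm_mul_right] at h1
  -- `[b,a][c,a] = 1`, `[c,a] = [b, a]`
  have hcc : ⁅α (α t), α t⁆ = 1 := by
    have e1 : (t * t) * (α t * α t) * ⁅α t, t⁆ * (α (α t) * α (α t)) * (⁅α (α t), t⁆ * ⁅α (α t), α t⁆) = 1 := h1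
    have hb := H.cm_mem (α t) t
    have hc := H.cm_mem (α (α t)) t
    have hd := H.cm_mem (α (α t)) (α t)
    have hsqc : α (α t) * α (α t) ∈ V := H.sq _
    have e2 : (t * t) * (α t * α t) * ⁅α t, t⁆ * (α (α t) * α (α t)) * (⁅α (α t), t⁆ * ⁅α (α t), α t⁆) =
        ((t * t) * (α t * α t) * (α (α t) * α (α t))) * (⁅α t, t⁆ * ⁅α (α t), t⁆) * ⁅α (α t), α t⁆ := by
      have := S.central _ hb (α (α t) * α (α t))
      calc (t * t) * (α t * α t) * ⁅α t, t⁆ * (α (α t) * α (α t)) * (⁅α (α t), t⁆ * ⁅α (α t), α t⁆)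
          = (t * t) * (α t * α t) * (⁅α t, t⁆ * (α (α t) * α (α t))) * (⁅α (α t), t⁆ * ⁅α (α t), α t⁆) := by
            group
        _ = (t * t) * (α t * α t) * ((α (α t) * α (α t)) * ⁅α t, t⁆) * (⁅α (α t), t⁆ * ⁅α (α t), α t⁆) := by
            rw [this]
        _ = _ := by group
    rw [e2, hq, one_mul, hcw, one_mul] at e1
    exact e1
  have h2 : ⁅α t, t⁆ = 1 := by
    rw [← H.cm_map] at hcc
    have := α.injective (hcc.trans (map_one α).symm)
    exact this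
  rw [H.cm_symm, h2]

lemma NA.cm_map_left (H : NA S) (s t : T) : ⁅α s, t⁆ = ⁅s, α t⁆ := by
  have h := H.cm_self_map (s * t)
  rw [map_mul, H.cm_mul_right, H.cm_mul_left, H.cm_mul_left, H.cm_self_map, H.cm_self_map, one_mul,
    mul_one] at h
  -- `[s, αt][t, αs] = 1`
  have h2 : ⁅s, α t⁆ = (⁅t, α s⁆)⁻¹ := eq_inv_of_mul_eq_one_left (by
    have := S.central _ (H.cm_mem s (α t)) ⁅t, α s⁆
    rw [← this] at h
    exact h)
  rw [h2, S.V_inv (H.cm_mem _ _), H.cm_symm]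

lemma NA.cm_map2 (H : NA S) (s t : T) : ⁅α s, t⁆ = α (α ⁅s, t⁆) := by
  have hcw : ⁅s * α s * α (α s), t⁆ = 1 := H.cm_of_mem_left (H.trace_mem s) t
  rw [H.cm_mul_left, H.cm_mul_left, H.cm_map_left (α s) t, ← H.cm_map] at hcw
  have hu := H.cm_mem s t
  rw [S.V_third hu]
  -- `u * b * α u = 1`
  set u := ⁅s, t⁆
  have hb := H.cm_mem (α s) t
  set b := ⁅α s, t⁆
  have hcomm := S.central _ hu b
  have hau : α u ∈ V := S.map_V hu
  have huu := (S.mem_V _).mp hu
  have haa := (S.mem_V _).mp hau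
  calc b = (u * u) * b * (α u * α u) := by rw [huu, haa]; group
    _ = u * (u * b * α u) * α u := by group
    _ = u * α u := by rw [hcw]; group

lemma NA.cm_map_right (H : NA S) (s t : T) : ⁅s, α t⁆ = α (α ⁅s, t⁆) := by
  rw [← H.cm_map_left, H.cm_map2]

end Setup

end Cfsg.Agent.Lib.TwoFusion.Hig
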