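import Mathlib

/-!
# Chevalley–Warning for pairs of quadratic forms over `𝔽₂`
-/

set_option autoImplicit false
set_option linter.unusedSectionVars false
set_option linter.unusedVariables false
set_option linter.style.haveILetI false

namespace Cfsg.Agent.Lib.TwoFusion.Hig

open MvPolynomial

variable {E : Type*} [AddCommGroup E] [Module (ZMod 2) E]

/-- A quadratic form over `𝔽₂`: `f (x + y) = f x + f y + b x y` with `b` biadditive. -/
structure QF (f : E → ZMod 2) (b : E → E → ZMod 2) : Prop where
  add : ∀ x y, f (x + y) = f x + f y + b x y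
  add_left : ∀ x y z, b (x + y) z = b x z + b y z
  add_right : ∀ x y z, b x (y + z) = b x y + b x z

namespace QF

variable {f : E → ZMod 2} {b : E → E → ZMod 2}

lemma b_zero_left (h : QF f b) (z : E) : b 0 z = 0 := by
  have := h.add_left 0 0 z
  simpa using this

lemma b_zero_right (h : QF f b) (z : E) : b z 0 = 0 := by
  have := h.add_right z 0 0
  simpa using this

lemma f_zero (h : QF f b) : f 0 = 0 := by
  have h1 := h.add 0 0
  rw [h.b_zero_left, add_zero, add_zero] at h1
  have h2 : (f 0 + f 0) = 0 := CharTwo.add_self_eq_zero _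
  rw [h2] at h1
  simpa using h1

lemma f_smul (h : QF f b) (e : ZMod 2) (x : E) : f (e • x) = e * f x := by
  have : e = 0 ∨ e = 1 := by
    revert e; decide
  rcases this with rfl | rfl
  · simp [h.f_zero]
  · simp

lemma b_smul_left (h : QF f b) (e : ZMod 2) (x z : E) : b (e • x) z = e * b x z := by
  have : e = 0 ∨ e = 1 := by
    revert e; decide
  rcases this with rfl | rfl
  · simp [h.b_zero_left]
  · simp

lemma b_sum_left (h : QF f b) {ι : Type*} (s : Finset ι) (g : ι → E) (z : E) :
    b (∑ i ∈ s, g i) z = ∑ i ∈ s, b (g i) z := by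
  classical
  induction s using Finset.induction_on with
  | empty => simp [h.b_zero_left]
  | insert a s ha ih =>
    rw [Finset.sum_insert ha, Finset.sum_insert ha, h.add_left, ih]

lemma b_smul_right (h : QF f b) (e : ZMod 2) (x z : E) : b x (e • z) = e * b x z := by
  have : e = 0 ∨ e = 1 := by
    revert e; decide
  rcases this with rfl | rfl
  · simp [h.b_zero_right]
  · simp

variable {σ : Type*} [Fintype σ] [LinearOrder σ]

/-- The polynomial of a quadratic form in a basis. -/
noncomputable def poly (f : E → ZMod 2) (b : E → E → ZMod 2) (B : σ → E) : MvPolynomial σ (ZMod 2) :=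
  (∑ i, C (f (B i)) * X i) + ∑ i, ∑ j, if i < j then C (b (B i) (B j)) * (X i * X j) else 0

omit [Fintype σ] in
lemma formula (h : QF f b) (B : σ → E) (ε : σ → ZMod 2) (s : Finset σ) :
    f (∑ i ∈ s, ε i • B i) = ∑ i ∈ s, ε i * f (B i) +
      ∑ j ∈ s, ∑ i ∈ s, if i < j then ε i * ε j * b (B i) (B j) else 0 := by
  induction s using Finset.induction_on_max with
  | empty => simp [h.f_zero]
  | insert a s hmax ih =>
    have ha : a ∉ s := fun h1 => lt_irrefl _ (hmax a h1)
    rw [Finset.sum_insert ha, add_comm (ε a • B a), h.add, ih, h.f_smul, h.b_sum_left,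
      Finset.sum_insert ha, Finset.sum_insert ha]
    have e1 : ∑ i ∈ s, b (ε i • B i) (ε a • B a) = ∑ i ∈ s, ε i * ε a * b (B i) (B a) := by
      apply Finset.sum_congr rfl
      intro i _
      rw [h.b_smul_left, h.b_smul_right]
      ring
    rw [e1]
    -- the double sum over `insert a s`
    have e2 : (∑ i ∈ insert a s, if i < a then ε i * ε a * b (B i) (B a) else 0) =
        ∑ i ∈ s, ε i * ε a * b (B i) (B a) := by
      rw [Finset.sum_insert ha, if_neg (lt_irrefl a), zero_add]
      apply Finset.sum_congr rfl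
      intro i hi
      rw [if_pos (hmax i hi)]
    have e3 : ∀ j ∈ s, (∑ i ∈ insert a s, if i < j then ε i * ε j * b (B i) (B j) else 0) =
        ∑ i ∈ s, if i < j then ε i * ε j * b (B i) (B j) else 0 := by
      intro j hj
      rw [Finset.sum_insert ha, if_neg (not_lt.mpr (hmax j hj).le), zero_add]
    rw [e2, Finset.sum_congr rfl e3]
    ring

lemma eval_poly (h : QF f b) (B : σ → E) (ε : σ → ZMod 2) :
    eval ε (poly f b B) = f (∑ i, ε i • B i) := by
  rw [formula h B ε Finset.univ]
  simp only [poly, map_add, map_sum, map_mul, eval_C, eval_X]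
  congr 1
  · apply Finset.sum_congr rfl
    intro i _
    ring
  · rw [Finset.sum_comm]
    apply Finset.sum_congr rfl
    intro j _
    apply Finset.sum_congr rfl
    intro i _
    split_ifs
    · simp only [map_mul, eval_C, eval_X]
      ring
    · simp

lemma totalDegree_poly (B : σ → E) : (poly f b B).totalDegree ≤ 2 := by
  classical
  unfold poly
  refine (totalDegree_add _ _).trans (max_le ?_ ?_)
  · refine (totalDegree_finsetSum _ _).trans (Finset.sup_le fun i _ => ?_)
    refine (totalDegree_mul _ _).trans ?_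
    rw [totalDegree_C, totalDegree_X]
    norm_num
  · refine (totalDegree_finsetSum _ _).trans (Finset.sup_le fun i _ => ?_)
    refine (totalDegree_finsetSum _ _).trans (Finset.sup_le fun j _ => ?_)
    split_ifs
    · refine (totalDegree_mul _ _).trans ?_
      rw [totalDegree_C]
      refine Nat.add_le_of_le_sub' (by norm_num) ?_
      refine (totalDegree_mul _ _).trans ?_
      rw [totalDegree_X, totalDegree_X]
    · simp

end QF

/-- **Chevalley–Warning**: two quadratic forms in more than four variables have a non-trivial common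
zero. -/
theorem exists_common_zero [Finite E] {f g : E → ZMod 2} {b c : E → E → ZMod 2} (hf : QF f b) (hg : QF g c)
    (hcard : 16 < Nat.card E) : ∃ x : E, x ≠ 0 ∧ f x = 0 ∧ g x = 0 := by
  classical
  haveI : Module.Finite (ZMod 2) E := Module.Finite.of_finite
  let B := Module.finBasis (ZMod 2) E
  set d := Module.finrank (ZMod 2) E with hd
  have hcardE : Nat.card E = 2 ^ d := by
    rw [Module.natCard_eq_pow_finrank (K := ZMod 2), Nat.card_zmod]
  have hd5 : 4 < d := by
    by_contra hc
    have : 2 ^ d ≤ 2 ^ 4 := Nat.pow_le_pow_right (by norm_num) (by omega)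
    omega
  haveI : Fact (Nat.Prime 2) := ⟨Nat.prime_two⟩
  have h1 : ((QF.poly f b B).totalDegree + (QF.poly g c B).totalDegree) < Fintype.card (Fin d) := by
    have h2 := QF.totalDegree_poly (f := f) (b := b) B
    have h3 := QF.totalDegree_poly (f := g) (b := c) B
    rw [Fintype.card_fin]
    omega
  have h2 := char_dvd_card_solutions_of_add_lt 2 h1
  have h0 : eval (0 : Fin d → ZMod 2) (QF.poly f b B) = 0 ∧ eval (0 : Fin d → ZMod 2) (QF.poly g c B) = 0 := by
    rw [QF.eval_poly hf, QF.eval_poly hg]
    simp [hf.f_zero, hg.f_zero]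
  have hpos : 0 < Fintype.card { x : Fin d → ZMod 2 // eval x (QF.poly f b B) = 0 ∧ eval x (QF.poly g c B) = 0 } :=
    Fintype.card_pos_iff.mpr ⟨⟨0, h0⟩⟩
  have hlt : 1 < Fintype.card { x : Fin d → ZMod 2 // eval x (QF.poly f b B) = 0 ∧ eval x (QF.poly g c B) = 0 } := by
    have := Nat.le_of_dvd hpos h2
    omega
  obtain ⟨⟨ε, hε⟩, hne⟩ := Fintype.exists_ne_of_one_lt_card hlt ⟨0, h0⟩
  have hε0 : ε ≠ 0 := fun h => hne (Subtype.ext h)
  rw [QF.eval_poly hf, QF.eval_poly hg] at hε
  refine ⟨∑ i, ε i • B i, ?_, hε.1, hε.2⟩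
  intro hz
  apply hε0
  have := B.equivFun_symm_apply ε
  rw [hz] at this
  have h3 : B.equivFun.symm ε = 0 := this
  exact (LinearEquiv.map_eq_zero_iff B.equivFun.symm).mp h3

end Cfsg.Agent.Lib.TwoFusion.Hig
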