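import Cfsg.Agent.Lib.TwoFusion.Hig.Struct

/-!
# In the non-abelian case `α³ = 1`
-/

set_option autoImplicit false
set_option linter.unusedSectionVars false
set_option linter.unusedVariables false
set_option linter.style.haveILetI false

namespace Cfsg.Agent.Lib.TwoFusion.Hig

open scoped commutatorElement

variable {T : Type*} [Group T] {α : MulAut T} {V : Subgroup T}

namespace Setup

/-- The number of elements of `U` with a given square. -/
noncomputable def NN (U : Subgroup T) (w : T) : ℕ := Nat.card {t : T // t ∈ U ∧ t * t = w}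

lemma NN_map (S : Setup α V) (U : Subgroup T) (hU : ∀ u ∈ U, α u ∈ U) (w : T) :
    NN U (α w) = NN U w := by
  unfold NN
  apply Nat.card_congr
  refine ⟨fun t => ⟨α.symm t.1, S.symm_mem U hU t.2.1, ?_⟩, fun t => ⟨α t.1, hU _ t.2.1, ?_⟩, ?_, ?_⟩
  · rw [← map_mul, t.2.2]; simp
  · rw [← map_mul, t.2.2]
  · intro t; simp
  · intro t; simp

lemma NN_one (S : Setup α V) (U : Subgroup T) (hVU : V ≤ U) : NN U 1 = 4 := by
  unfold NN
  rw [← S.card_V]
  apply Nat.card_congr
  refine ⟨fun t => ⟨t.1, (S.mem_V _).mpr t.2.2⟩, fun t => ⟨t.1, hVU t.2, (S.mem_V _).mp t.2⟩, ?_, ?_⟩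
  · intro t; rfl
  · intro t; rfl

/-- The fibre count. -/
theorem card_fibre (S : Setup α V) (U : Subgroup T) (hU : ∀ u ∈ U, α u ∈ U) (hVU : V ≤ U)
    (hsq : ∀ t ∈ U, t * t ∈ V) {v : T} (hv : v ∈ V) (h1 : v ≠ 1) :
    Nat.card U = 4 + 3 * NN U v := by
  classical
  haveI := S.fin
  haveI : Fintype T := Fintype.ofFinite T
  obtain ⟨a1, a2, a3⟩ := S.ne_of_ne_one hv h1
  have hav1 : α v ≠ 1 := by
    intro h; apply h1; apply α.injective; rw [h, map_one]
  have haav1 : α (α v) ≠ 1 := by
    intro h; apply hav1; apply α.injective; rw [h, map_one]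
  have hcardU : Nat.card U = (Finset.univ.filter (· ∈ U)).card := by
    rw [Nat.card_eq_fintype_card, Fintype.card_subtype]
  have hNN : ∀ w, NN U w = ((Finset.univ.filter (· ∈ U)).filter (fun t => t * t = w)).card := by
    intro w
    unfold NN
    rw [Nat.card_eq_fintype_card, Fintype.card_subtype, Finset.filter_filter]
  let W : Finset T := {1, v, α v, α (α v)}
  have hmaps : ∀ t ∈ Finset.univ.filter (· ∈ U), t * t ∈ W := by
    intro t ht
    have ht' : t ∈ U := (Finset.mem_filter.mp ht).2
    have := hsq t ht'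
    rcases S.V_cases hv h1 this with h | h | h | h <;> simp [W, h]
  have h := Finset.card_eq_sum_card_fiberwise (f := fun t : T => t * t) (s := Finset.univ.filter (· ∈ U))
    (t := W) (fun t ht => hmaps t ht)
  rw [hcardU, h]
  have e : ∑ b ∈ W, ((Finset.univ.filter (· ∈ U)).filter (fun t => t * t = b)).card =
      NN U 1 + (NN U v + (NN U (α v) + NN U (α (α v)))) := by
    simp only [W]
    rw [Finset.sum_insert, Finset.sum_insert, Finset.sum_insert, Finset.sum_singleton]
    · simp only [hNN]
    · simp only [Finset.mem_singleton]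
      exact a3.symm
    · simp only [Finset.mem_insert, Finset.mem_singleton, not_or]
      exact ⟨a1.symm, a2.symm⟩
    · simp only [Finset.mem_insert, Finset.mem_singleton, not_or]
      exact ⟨h1.symm, hav1.symm, haav1.symm⟩
  rw [e, S.NN_one U hVU, S.NN_map U hU, S.NN_map U hU, S.NN_map U hU]
  ring

/-- **`α³ = 1`** -/
theorem cube_eq (S : Setup α V) (h64 : Nat.card T = 64) (hsq : ∀ t : T, t * t ∈ V) (t : T) :
    α (α (α t)) = t := by
  classical
  haveI := S.fin
  haveI : Fintype T := Fintype.ofFinite T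
  obtain ⟨a, ha⟩ := S.three
  -- `V` is non-trivial
  obtain ⟨v, hv, hv1⟩ : ∃ v ∈ V, v ≠ 1 := by
    by_contra hc
    push Not at hc
    have : V = ⊥ := by
      rw [eq_bot_iff]
      intro x hx
      exact Subgroup.mem_bot.mpr (hc x hx)
    have h4 := S.card_V
    rw [this] at h4
    simp at h4
  let β : MulAut T := α * α * α
  have hβ : ∀ x, β x = α (α (α x)) := fun x => rfl
  let C : Subgroup T :=
    { carrier := {x | β x = x}
      one_mem' := map_one β
      mul_mem' := by
        intro x y hx hy
        change β (x * y) = x * y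
        rw [map_mul, show β x = x from hx, show β y = y from hy]
      inv_mem' := by
        intro x hx
        change β x⁻¹ = x⁻¹
        rw [map_inv, show β x = x from hx] }
  have hCmem : ∀ x, x ∈ C ↔ β x = x := fun x => Iff.rfl
  have hCi : ∀ u ∈ C, α u ∈ C := by
    intro u hu
    rw [hCmem] at hu ⊢
    rw [hβ] at hu ⊢
    rw [hu]
  have hVC : V ≤ C := fun w hw => S.V_cube hw
  have hfT := S.card_fibre ⊤ (fun _ _ => Subgroup.mem_top _) le_top (fun t _ => hsq t) hv hv1
  have hfC := S.card_fibre C hCi hVC (fun t _ => hsq t) hv hv1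
  rw [Subgroup.card_top, h64] at hfT
  have hNT : NN (⊤ : Subgroup T) v = 20 := by omega
  -- the fixed point count
  let X := {t : T // t * t = v}
  have hXcard : Nat.card X = 20 := by
    rw [← hNT]
    unfold NN
    apply Nat.card_congr
    exact ⟨fun t => ⟨t.1, Subgroup.mem_top _, t.2⟩, fun t => ⟨t.1, t.2.2⟩, fun _ => rfl, fun _ => rfl⟩
  let f : Function.End X := fun t => ⟨β t.1, by
    rw [← map_mul, t.2]
    exact S.V_cube hv⟩
  have hf : f ^ 3 ^ (a + 1) = 1 := by
    have key : ∀ k (y : X), ((f ^ k) y : T) = (β ^ k) y.1 := by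
      intro k y
      induction k with
      | zero => rfl
      | succ k ih =>
        rw [pow_succ', pow_succ', MulAut.mul_apply]
        change β ((f ^ k) y : T) = _
        rw [ih]
    have hβ3 : β ^ 3 ^ (a + 1) = 1 := by
      have e : β = α ^ 3 := by
        simp only [β, pow_succ, pow_zero, one_mul]
      rw [e, ← pow_mul]
      have e2 : 3 * 3 ^ (a + 1) = 3 ^ a * 9 := by ring
      rw [e2, pow_mul, ha, one_pow]
    funext y
    apply Subtype.ext
    rw [key, hβ3]
    rfl
  haveI : Fact (Nat.Prime 3) := ⟨Nat.prime_three⟩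
  have hmod := Equiv.Perm.card_fixedPoints_modEq (p := 3) hf
  have hfix : Fintype.card (Function.fixedPoints f) = NN C v := by
    rw [← Nat.card_eq_fintype_card]
    unfold NN
    apply Nat.card_congr
    refine ⟨fun t => ⟨t.1.1, ?_, t.1.2⟩, fun t => ⟨⟨t.1, t.2.2⟩, ?_⟩, ?_, ?_⟩
    · have := congrArg Subtype.val t.2
      exact this
    · apply Subtype.ext
      exact t.2.1
    · intro t; rfl
    · intro t; rfl
  rw [hfix, ← Nat.card_eq_fintype_card, hXcard] at hmod
  obtain ⟨j, hj⟩ := S.card_eq_four_pow C hCi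
  have hle : Nat.card C ≤ 64 := by
    rw [← h64]
    exact Subgroup.card_le_card_group C
  have hCtop : Nat.card C = 64 := by
    have hj3 : j ≤ 3 := by
      by_contra hc
      have : 4 ^ 4 ≤ 4 ^ j := Nat.pow_le_pow_right (by norm_num) (by omega)
      omega
    interval_cases j
    · omega
    · exfalso
      have : NN C v = 0 := by omega
      rw [this] at hmod
      exact absurd hmod (by decide)
    · exfalso
      have : NN C v = 4 := by omega
      rw [this] at hmod
      exact absurd hmod (by decide)
    · simpa using hj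
  have hC : C = ⊤ := by
    apply Subgroup.eq_top_of_card_eq
    rw [hCtop, h64]
  have : t ∈ C := by rw [hC]; trivial
  exact this

end Setup

end Cfsg.Agent.Lib.TwoFusion.Hig
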