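import Cfsg.Agent.Lib.TwoFusion.Hig.IsoH
import Cfsg.Prelude.Def_CaseTheorems

/-!
# From a transitive automorphism to the set-up; the final statement
-/

set_option autoImplicit false
set_option linter.unusedSectionVars false
set_option linter.unusedVariables false
set_option linter.style.haveILetI false

namespace Cfsg.Agent.Lib.TwoFusion.Hig

open scoped commutatorElement

variable {T : Type*} [Group T]

theorem exists_setup [Finite T] (hT : IsPGroup 2 T) (h2 : Cfsg.PRankLE 2 2 T) (h1 : ¬ Cfsg.PRankLE 2 1 T)
    (φ : MulAut T) (htrans : ∀ s t : T, orderOf s = 2 → orderOf t = 2 → ∃ k : ℕ, (φ ^ k) s = t) :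
    ∃ (α : MulAut T) (V : Subgroup T), Setup α V := by
  classical
  haveI : Fintype T := Fintype.ofFinite T
  haveI : Fact (Nat.Prime 2) := ⟨Nat.prime_two⟩
  have h1' := h1
  unfold Cfsg.PRankLE at h1' h2
  push Not at h1'
  obtain ⟨A, hAc, hA2, hAcard⟩ := h1'
  have hnt : Nontrivial T := by
    by_contra hc
    rw [not_nontrivial_iff_subsingleton] at hc
    have : Nat.card A = 1 := Nat.card_unique
    rw [this] at hAcard
    omega
  -- a central involution
  obtain ⟨z, hzc, hz2⟩ : ∃ z ∈ Subgroup.center T, orderOf z = 2 := by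
    haveI := hT.center_nontrivial
    have hdvd : 2 ∣ Nat.card (Subgroup.center T) := by
      obtain ⟨k, hk⟩ := IsPGroup.iff_card.mp (hT.to_subgroup (Subgroup.center T))
      have hne : Nat.card (Subgroup.center T) ≠ 1 := by
        exact Finite.one_lt_card.ne'
      rw [hk] at hne ⊢
      exact dvd_pow_self 2 (by rintro rfl; simp at hne)
    obtain ⟨x, hx⟩ := exists_prime_orderOf_dvd_card' (G := Subgroup.center T) 2 hdvd
    exact ⟨x.1, x.2, by rw [← Subgroup.orderOf_coe] at hx; exact hx⟩
  -- all involutions are central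
  have hcen0 : ∀ s, orderOf s = 2 → s ∈ Subgroup.center T := by
    intro s hs
    obtain ⟨k, hk⟩ := htrans z s hz2 hs
    rw [← hk, Subgroup.mem_center_iff]
    intro g
    obtain ⟨g', rfl⟩ := (φ ^ k).surjective g
    rw [← map_mul, ← map_mul, Subgroup.mem_center_iff.mp hzc]
  have hord : ∀ s : T, s * s = 1 → s ≠ 1 → orderOf s = 2 := by
    intro s hs hs1
    apply orderOf_eq_prime
    · rw [pow_two]; exact hs
    · exact hs1
  have hcen : ∀ s : T, s * s = 1 → ∀ t : T, s * t = t * s := by
    intro s hs t
    by_cases hs1 : s = 1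
    · simp [hs1]
    · exact (Subgroup.mem_center_iff.mp (hcen0 s (hord s hs hs1)) t).symm
  let V : Subgroup T :=
    { carrier := {x | x * x = 1}
      one_mem' := one_mul 1
      mul_mem' := by
        intro a b ha hb
        have ha' : a * a = 1 := ha
        have hb' : b * b = 1 := hb
        change a * b * (a * b) = 1
        calc a * b * (a * b) = a * (b * a) * b := by group
          _ = a * (a * b) * b := by rw [hcen b hb' a]
          _ = (a * a) * (b * b) := by group
          _ = 1 := by rw [ha', hb', one_mul]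
      inv_mem' := by
        intro a ha
        have ha' : a * a = 1 := ha
        change a⁻¹ * a⁻¹ = 1
        rw [← mul_inv_rev, ha', inv_one] }
  have hVmem : ∀ x, x ∈ V ↔ x * x = 1 := fun _ => Iff.rfl
  have hAV : A ≤ V := by
    intro a ha
    rw [hVmem, ← pow_two]
    exact hA2 a ha
  have hcardV : Nat.card V = 4 := by
    have hle : Nat.card V ≤ 2 ^ 2 := h2 V ⟨⟨fun a b => Subtype.ext (hcen a.1 a.2 b.1)⟩⟩ (fun a ha => by
      rw [pow_two]; exact ha)
    have hge : Nat.card A ≤ Nat.card V := Subgroup.card_le_of_le hAV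
    obtain ⟨k, hk⟩ := IsPGroup.iff_card.mp (hT.to_subgroup V)
    rw [hk] at hle hge ⊢
    have hk2 : k = 2 := by
      have hk3 : k ≤ 2 := (Nat.pow_le_pow_iff_right (by norm_num)).mp hle
      interval_cases k
      · simp only [pow_zero] at hge
        simp only [pow_one] at hAcard
        omega
      · simp only [pow_one] at hge
        simp only [pow_one] at hAcard
        omega
      · rfl
    rw [hk2]
    norm_num
  -- the three involutions
  have hne : ∀ s : T, s * s = 1 → s ≠ 1 → φ s ≠ s ∧ φ (φ s) ≠ s ∧ φ (φ (φ s)) = s := by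
    intro s hs hs1
    have hφ : ∀ (k : ℕ) (x : T), x * x = 1 → (φ ^ k) x * (φ ^ k) x = 1 := by
      intro k x hx
      rw [← map_mul, hx, map_one]
    -- `V` has an element outside of the given lists
    have hbig : ∀ (a b : T), ∃ t ∈ V, t ≠ 1 ∧ t ≠ a ∧ t ≠ b := by
      intro a b
      by_contra hc
      push Not at hc
      have hsub : ∀ t ∈ V, t = 1 ∨ t = a ∨ t = b := by
        intro t ht
        by_cases h1 : t = 1
        · exact Or.inl h1
        by_cases h2 : t = a
        · exact Or.inr (Or.inl h2)
        · exact Or.inr (Or.inr (hc t ht h1 h2))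
      have hle : Nat.card V ≤ 3 := by
        have : (Set.univ : Set V) ⊆ (fun v : V => v.1) ⁻¹' ({1, a, b} : Finset T) := by
          intro v _
          have := hsub v.1 v.2
          simpa using this
        have h5 : Nat.card V ≤ ({1, a, b} : Finset T).card := by
          rw [← Nat.card_eq_finsetCard]
          apply Nat.card_le_card_of_injective (fun v : V => (⟨v.1, by
            have := hsub v.1 v.2
            simpa using this⟩ : ({1, a, b} : Finset T)))
          intro u v huv
          have h7 := congrArg Subtype.val huv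
          exact Subtype.ext h7
        exact h5.trans Finset.card_le_three
      omega
    have h1 : φ s ≠ s := by
      intro h
      obtain ⟨t, ht, ht1, ht2, -⟩ := hbig s 1
      obtain ⟨k, hk⟩ := htrans s t (hord s hs hs1) (hord t ht ht1)
      have : ∀ k : ℕ, (φ ^ k) s = s := by
        intro k
        induction k with
        | zero => simp
        | succ k ih =>
          rw [pow_succ, MulAut.mul_apply, h, ih]
      rw [this] at hk
      exact ht2 hk.symm
    have h2 : φ (φ s) ≠ s := by
      intro h
      obtain ⟨t, ht, ht1, ht2, ht3⟩ := hbig s (φ s)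
      obtain ⟨k, hk⟩ := htrans s t (hord s hs hs1) (hord t ht ht1)
      have : ∀ k : ℕ, (φ ^ k) s = s ∨ (φ ^ k) s = φ s := by
        intro k
        induction k with
        | zero => simp
        | succ k ih =>
          rw [pow_succ', MulAut.mul_apply]
          rcases ih with ih | ih
          · right; rw [ih]
          · left; rw [ih, h]
      rcases this k with h3 | h3
      · rw [h3] at hk
        exact ht2 hk.symm
      · rw [h3] at hk
        exact ht3 hk.symm
    refine ⟨h1, h2, ?_⟩
    -- the third involution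
    by_contra h3
    have hs1' : φ s ≠ 1 := by
      intro h
      apply hs1
      apply φ.injective
      rw [h, map_one]
    have hs2' : φ (φ s) ≠ 1 := by
      intro h
      apply hs1'
      apply φ.injective
      rw [h, map_one]
    have hs3' : φ (φ (φ s)) ≠ 1 := by
      intro h
      apply hs2'
      apply φ.injective
      rw [h, map_one]
    have ha1 : φ s ∈ V := by
      rw [hVmem, ← map_mul, hs, map_one]
    have ha2 : φ (φ s) ∈ V := by
      rw [hVmem, ← map_mul, ← map_mul, hs, map_one, map_one]
    have ha3 : φ (φ (φ s)) ∈ V := by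
      rw [hVmem, ← map_mul, ← map_mul, ← map_mul, hs, map_one, map_one, map_one]
    have hd1 : φ (φ (φ s)) ≠ φ s := fun h => h2 (φ.injective h)
    have hd2 : φ (φ (φ s)) ≠ φ (φ s) := fun h => h1 (φ.injective (φ.injective h))
    have hd3 : φ (φ s) ≠ φ s := fun h => h1 (φ.injective h)
    let u : Finset T := {1, s, φ s, φ (φ s), φ (φ (φ s))}
    have hu : u.card = 5 := by
      rw [Finset.card_insert_of_notMem, Finset.card_insert_of_notMem, Finset.card_insert_of_notMem,
        Finset.card_insert_of_notMem, Finset.card_singleton]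
      · simp only [Finset.mem_singleton]
        exact hd2.symm
      · simp only [Finset.mem_insert, Finset.mem_singleton, not_or]
        exact ⟨hd3.symm, hd1.symm⟩
      · simp only [Finset.mem_insert, Finset.mem_singleton, not_or]
        exact ⟨h1.symm, h2.symm, h3 ∘ Eq.symm⟩
      · simp only [Finset.mem_insert, Finset.mem_singleton, not_or]
        exact ⟨hs1.symm, hs1'.symm, hs2'.symm, hs3'.symm⟩
    have hle5 : 5 ≤ Nat.card V := by
      rw [← hu, ← Nat.card_eq_finsetCard]
      apply Nat.card_le_card_of_injective (fun v : u => (⟨v.1, by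
        have hv := v.2
        simp only [u, Finset.mem_insert, Finset.mem_singleton] at hv
        rcases hv with h | h | h | h | h <;> rw [h]
        · exact V.one_mem
        · exact hs
        · exact ha1
        · exact ha2
        · exact ha3⟩ : V))
      intro a b hab
      have h7 := congrArg Subtype.val hab
      exact Subtype.ext h7
    omega
  -- the automorphism
  haveI : Finite (MulAut T) := Finite.of_injective (fun f : MulAut T => (f : T → T)) (fun a b h => by
    ext x
    exact congrFun h x)
  have hφ0 : orderOf φ ≠ 0 := (orderOf_pos φ).ne'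
  obtain ⟨a, m, hm3, hm⟩ := Nat.exists_eq_pow_mul_and_not_dvd hφ0 3 (by norm_num)
  have hαa : (φ ^ m) ^ (3 ^ a) = 1 := by
    rw [← pow_mul, mul_comm, ← hm, pow_orderOf_eq_one]
  have hm' : m % 3 = 1 ∨ m % 3 = 2 := by omega
  have hαs : ∀ s : T, s * s = 1 → s ≠ 1 → (φ ^ m) s ≠ s := by
    intro s hs hs1
    obtain ⟨h1, h2, h3⟩ := hne s hs hs1
    have hthree : ∀ q : ℕ, (φ ^ (3 * q)) s = s := by
      intro q
      induction q with
      | zero => simp
      | succ q ih =>
        rw [show 3 * (q + 1) = 3 + 3 * q by ring, pow_add, MulAut.mul_apply, ih]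
        exact h3
    have hmm : m = 3 * (m / 3) + m % 3 := (Nat.div_add_mod m 3).symm
    rcases hm' with h | h
    · rw [hmm, h, add_comm, pow_add, MulAut.mul_apply, hthree]
      simpa using h1
    · rw [hmm, h, add_comm, pow_add, MulAut.mul_apply, hthree]
      simpa [pow_two] using h2
  refine ⟨φ ^ m, V, ⟨inferInstance, hT, ⟨a, hαa⟩, ?_, hVmem, hcardV, fun v hv t => hcen v hv t⟩⟩
  intro x hx
  by_contra hx1
  -- a power of `x` is an involution
  obtain ⟨k, hk⟩ := hT x
  obtain ⟨n, -, hn⟩ := (Nat.dvd_prime_pow Nat.prime_two).mp (orderOf_dvd_of_pow_eq_one hk)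
  have hn0 : n ≠ 0 := by
    rintro rfl
    apply hx1
    rw [pow_zero] at hn
    exact orderOf_eq_one_iff.mp hn
  obtain ⟨n, rfl⟩ := Nat.exists_eq_succ_of_ne_zero hn0
  have h1 : x ^ 2 ^ n * x ^ 2 ^ n = 1 := by
    rw [← pow_add, ← two_mul, ← pow_succ', ← hn]
    exact pow_orderOf_eq_one x
  have h2 : x ^ 2 ^ n ≠ 1 := by
    apply pow_ne_one_of_lt_orderOf (by positivity)
    rw [hn, pow_succ]
    have : 0 < 2 ^ n := by positivity
    omega
  apply hαs _ h1 h2
  rw [map_pow, hx]

/-- **The final statement.** -/
theorem final [Finite T] (hT : IsPGroup 2 T) (h2 : Cfsg.PRankLE 2 2 T) (h1 : ¬ Cfsg.PRankLE 2 1 T) (φ : MulAut T)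
    (htrans : ∀ s t : T, orderOf s = 2 → orderOf t = 2 → ∃ k : ℕ, (φ ^ k) s = t)
    {F : Type*} [Field F] [Fintype F] (hF : Fintype.card F = 16) (P : Sylow 2 (Cfsg.PSU 3 F 4)) :
    (∃ n : ℕ, 1 ≤ n ∧ Nonempty (T ≃* Multiplicative (ZMod (2 ^ n) × ZMod (2 ^ n)))) ∨
      Nonempty (T ≃* (P : Subgroup (Cfsg.PSU 3 F 4))) := by
  haveI : Fact (Fintype.card F = 16) := ⟨hF⟩
  obtain ⟨α, V, S⟩ := exists_setup hT h2 h1 φ htrans
  rcases S.structure_thm with hc | ⟨h64, hcen, hsq⟩
  · exact Or.inl (S.homocyclic hc)
  · right
    have H : Setup.NA S := ⟨h64, hcen, hsq⟩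
    obtain ⟨e1⟩ := H.iso_H (F := F)
    obtain ⟨e2⟩ := U34.nonempty_equiv P
    exact ⟨e1.trans e2.symm⟩

end Cfsg.Agent.Lib.TwoFusion.Hig
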