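import Cfsg.Agent.Lib.TwoFusion.Hig.Ab

/-!
# The abelian case of Higman's theorem in rank two
-/

set_option autoImplicit false
set_option linter.unusedSectionVars false
set_option linter.unusedVariables false
set_option linter.style.haveILetI false

namespace Cfsg.Agent.Lib.TwoFusion.Hig

variable {T : Type*} [Group T] {α : MulAut T} {V : Subgroup T}

namespace Setup

lemma inv_pow_parity {x : T} (hx : x * x = 1) (u : ℕ) : x ^ u = if Even u then 1 else x := by
  have h2 : x ^ 2 = 1 := by rwa [pow_two]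
  split_ifs with h
  · obtain ⟨k, rfl⟩ := h
    rw [← two_mul, pow_mul, h2, one_pow]
  · obtain ⟨k, rfl⟩ := Nat.not_even_iff_odd.mp h
    rw [pow_succ, pow_mul, h2, one_pow, one_mul]

/-- Independence of `a` and `α a`. -/
lemma indep (S : Setup α V) (hc : ∀ x y : T, x * y = y * x) {n : ℕ} (hn : 1 ≤ n) {a : T}
    (hv : a ^ 2 ^ (n - 1) ≠ 1) (hv2 : a ^ 2 ^ n = 1) {i j : ℕ} (h : a ^ i * (α a) ^ j = 1) :
    2 ^ n ∣ i ∧ 2 ^ n ∣ j := by
  have hn' : n - 1 + 1 = n := by omega
  set v := a ^ 2 ^ (n - 1) with hvdef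
  have hvV : v ∈ V := by
    rw [S.mem_V, hvdef, ← pow_add, ← two_mul, ← pow_succ', hn']
    exact hv2
  obtain ⟨a1, a2, a3⟩ := S.ne_of_ne_one hvV hv
  have hvv : v * v = 1 := (S.mem_V v).mp hvV
  have hv' : α v ∈ V := S.map_V hvV
  have hvv' : α v * α v = 1 := (S.mem_V _).mp hv'
  have hav1 : α v ≠ 1 := by
    intro h1; apply hv; apply α.injective; rw [h1, map_one]
  have key : ∀ k, k ≤ n → 2 ^ k ∣ i ∧ 2 ^ k ∣ j := by
    intro k
    induction k with
    | zero => intro _; simp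
    | succ k ih =>
      intro hk
      obtain ⟨⟨u, hu⟩, ⟨w, hw⟩⟩ := ih (by omega)
      have h3 : (a ^ i * (α a) ^ j) ^ 2 ^ (n - 1 - k) = 1 := by rw [h, one_pow]
      have hcc : Commute (a ^ i) ((α a) ^ j) := hc _ _
      rw [hcc.mul_pow] at h3
      have e1 : (a ^ i) ^ 2 ^ (n - 1 - k) = v ^ u := by
        rw [hu, hvdef, ← pow_mul, ← pow_mul]
        congr 1
        calc 2 ^ k * u * 2 ^ (n - 1 - k) = 2 ^ k * 2 ^ (n - 1 - k) * u := by ring
          _ = 2 ^ (k + (n - 1 - k)) * u := by rw [pow_add]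
          _ = 2 ^ (n - 1) * u := by congr 2; omega
      have e2 : ((α a) ^ j) ^ 2 ^ (n - 1 - k) = (α v) ^ w := by
        rw [hw, hvdef, map_pow, ← pow_mul, ← pow_mul]
        congr 1
        calc 2 ^ k * w * 2 ^ (n - 1 - k) = 2 ^ k * 2 ^ (n - 1 - k) * w := by ring
          _ = 2 ^ (k + (n - 1 - k)) * w := by rw [pow_add]
          _ = 2 ^ (n - 1) * w := by congr 2; omega
      rw [e1, e2, inv_pow_parity hvv, inv_pow_parity hvv'] at h3
      have hue : Even u ∧ Even w := by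
        by_cases hu2 : Even u <;> by_cases hw2 : Even w
        · exact ⟨hu2, hw2⟩
        · exfalso
          rw [if_pos hu2, if_neg hw2, one_mul] at h3
          exact hav1 h3
        · exfalso
          rw [if_neg hu2, if_pos hw2, mul_one] at h3
          exact hv h3
        · exfalso
          rw [if_neg hu2, if_neg hw2] at h3
          apply a1
          have h4 : v * α v = v * v := by rw [h3, hvv]
          exact mul_left_cancel h4
      obtain ⟨⟨u', hu'⟩, ⟨w', hw'⟩⟩ := hue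
      constructor
      · rw [hu, hu', pow_succ]
        exact ⟨u', by ring⟩
      · rw [hw, hw', pow_succ]
        exact ⟨w', by ring⟩
  exact key n le_rfl

/-- **The abelian case**: `T` is homocyclic of rank two. -/
theorem homocyclic (S : Setup α V) (hc : ∀ x y : T, x * y = y * x) :
    ∃ n : ℕ, 1 ≤ n ∧ Nonempty (T ≃* Multiplicative (ZMod (2 ^ n) × ZMod (2 ^ n))) := by
  classical
  haveI := S.fin
  have hab : AbSub (⊤ : Subgroup T) α V :=
    ⟨fun a _ b _ => hc a b, fun _ _ => Subgroup.mem_top _, le_top⟩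
  obtain ⟨n, e⟩ := S.exists_exp hab
  refine ⟨n, e.pos, ?_⟩
  obtain ⟨a, -, ha⟩ := e.ex
  have ha2 : a ^ 2 ^ n = 1 := e.top a (Subgroup.mem_top _)
  have hb2 : (α a) ^ 2 ^ n = 1 := e.top _ (Subgroup.mem_top _)
  letI : CommGroup T := { (inferInstance : Group T) with mul_comm := hc }
  haveI : NeZero (2 ^ n) := ⟨by positivity⟩
  let g₁ : ZMod (2 ^ n) →+ Additive T :=
    ZMod.lift (2 ^ n) ⟨zmultiplesHom (Additive T) (Additive.ofMul a), by
      simp only [zmultiplesHom_apply]
      change ((2 ^ n : ℕ) : ℤ) • _ = 0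
      rw [natCast_zsmul, ← ofMul_pow, ha2]
      rfl⟩
  let g₂ : ZMod (2 ^ n) →+ Additive T :=
    ZMod.lift (2 ^ n) ⟨zmultiplesHom (Additive T) (Additive.ofMul (α a)), by
      simp only [zmultiplesHom_apply]
      change ((2 ^ n : ℕ) : ℤ) • _ = 0
      rw [natCast_zsmul, ← ofMul_pow, hb2]
      rfl⟩
  have hg₁ : ∀ i : ℕ, g₁ (i : ZMod (2 ^ n)) = Additive.ofMul (a ^ i) := by
    intro i
    have := ZMod.lift_coe (2 ^ n) (f := ⟨zmultiplesHom (Additive T) (Additive.ofMul a), by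
      simp only [zmultiplesHom_apply]
      change ((2 ^ n : ℕ) : ℤ) • _ = 0
      rw [natCast_zsmul, ← ofMul_pow, ha2]
      rfl⟩) (i : ℤ)
    rw [Int.cast_natCast] at this
    rw [this]
    simp
  have hg₂ : ∀ i : ℕ, g₂ (i : ZMod (2 ^ n)) = Additive.ofMul ((α a) ^ i) := by
    intro i
    have := ZMod.lift_coe (2 ^ n) (f := ⟨zmultiplesHom (Additive T) (Additive.ofMul (α a)), by
      simp only [zmultiplesHom_apply]
      change ((2 ^ n : ℕ) : ℤ) • _ = 0
      rw [natCast_zsmul, ← ofMul_pow, hb2]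
      rfl⟩) (i : ℤ)
    rw [Int.cast_natCast] at this
    rw [this]
    simp
  let F : ZMod (2 ^ n) × ZMod (2 ^ n) →+ Additive T := g₁.coprod g₂
  have hF : ∀ i j : ℕ, F (i, j) = Additive.ofMul (a ^ i * (α a) ^ j) := by
    intro i j
    simp only [F, AddMonoidHom.coprod_apply, hg₁, hg₂, ofMul_mul]
  have hinj : Function.Injective F := by
    rw [injective_iff_map_eq_zero]
    rintro ⟨p, q⟩ hpq
    obtain ⟨i, rfl⟩ := ZMod.natCast_zmod_surjective p
    obtain ⟨j, rfl⟩ := ZMod.natCast_zmod_surjective q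
    rw [hF] at hpq
    have h1 : a ^ i * (α a) ^ j = 1 := hpq
    obtain ⟨h2, h3⟩ := S.indep hc e.pos ha ha2 h1
    rw [Prod.mk_eq_zero]
    exact ⟨(ZMod.natCast_eq_zero_iff _ _).mpr h2, (ZMod.natCast_eq_zero_iff _ _).mpr h3⟩
  have hcard : Nat.card (Additive T) ≤ Nat.card (ZMod (2 ^ n) × ZMod (2 ^ n)) := by
    have h1 := S.card_le n (⊤ : Subgroup T) (fun a _ b _ => hc a b) (fun _ _ => Subgroup.mem_top _)
      (fun a _ => e.top a (Subgroup.mem_top _))
    rw [Subgroup.card_top] at h1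
    have h2 : Nat.card (Additive T) = Nat.card T := rfl
    rw [h2, Nat.card_prod, Nat.card_zmod, ← mul_pow]
    simpa using h1
  have hbij := hinj.bijective_of_nat_card_le hcard
  exact ⟨AddEquiv.toMultiplicativeRight (AddEquiv.ofBijective F hbij).symm⟩

end Setup

end Cfsg.Agent.Lib.TwoFusion.Hig
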