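import Cfsg.Agent.Lib.TwoFusion.Hig.Bil
import Cfsg.Agent.Lib.TwoFusion.U34

/-!
# The non-abelian case: the isomorphism with the model of a Sylow subgroup of `U₃(4)`
-/

set_option autoImplicit false
set_option linter.unusedSectionVars false
set_option linter.unusedVariables false
set_option linter.style.haveILetI false

namespace Cfsg.Agent.Lib.TwoFusion.Hig

open scoped commutatorElement
open Cfsg.Agent.Lib.TwoFusion.U34 (two0 pw ad4)

variable {T : Type*} [Group T] {α : MulAut T} {V : Subgroup T}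
variable {F : Type*} [Field F] [Fintype F] [hf : Fact (Fintype.card F = 16)]

namespace Setup

variable {S : Setup α V}

/-- Generation. -/
theorem NA.gen_top (H : NA S) {x y : T} (hxy : ⁅x, y⁆ ≠ 1) (M : Subgroup T) (hMi : ∀ u ∈ M, α u ∈ M)
    (hVM : V ≤ M) (hx : x ∈ M) (hy : y ∈ M) : M = ⊤ := by
  classical
  haveI := S.fin
  haveI hVn := S.V_normal
  have hxV : x ∉ V := fun h => hxy (H.cm_of_mem_left h y)
  obtain ⟨j, hj⟩ := S.card_eq_four_pow M hMi
  have hrel := Cfsg.Agent.Lib.TwoFusion.SecRank.card_eq_relIndex_mul hVM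
  have hcardV : Nat.card V = 4 := S.card_V
  rw [hcardV] at hrel
  have hne1 : V.relIndex M ≠ 1 := by
    intro h1
    rw [Subgroup.relIndex_eq_one] at h1
    exact hxV (h1 hx)
  have hle : Nat.card M ≤ 64 := by
    rw [← H.card]
    exact Subgroup.card_le_card_group M
  have hj2 : j = 2 ∨ j = 3 := by
    have h4 : j ≤ 3 := by
      by_contra hc
      have : 4 ^ 4 ≤ 4 ^ j := Nat.pow_le_pow_right (by norm_num) (by omega)
      omega
    interval_cases j
    · rw [pow_zero] at hj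
      omega
    · exfalso
      apply hne1
      rw [hj] at hrel
      omega
    · left; rfl
    · right; rfl
  rcases hj2 with rfl | rfl
  · exfalso
    have hr3 : V.relIndex M = 4 := by
      rw [hj] at hrel
      omega
    have hc := S.comm_of_index_four V M hVM (fun u hu => S.map_V hu) hMi hr3
      (fun a _ b _ => by
        have := H.cm_mem a b
        rwa [commutatorElement_def] at this)
      (fun a _ => H.sq a) (fun m hm a _ => S.central m hm a)
    exact hxy (commutatorElement_eq_one_iff_mul_comm.mpr (hc x hx y hy))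
  · apply Subgroup.eq_top_of_card_eq
    rw [hj, H.card]
    norm_num

/-- A homomorphism to the additive group of `F` compatible with `α` vanishes once it does so on
`x, y, V`. -/
theorem NA.zero_of_add (H : NA S) {x y : T} (hxy : ⁅x, y⁆ ≠ 1) (g : T → F) (hg : ∀ s t, g (s * t) = g s + g t)
    (hα : ∀ s, g s = 0 → g (α s) = 0) (hV : ∀ v ∈ V, g v = 0) (hx : g x = 0) (hy : g y = 0) (t : T) :
    g t = 0 := by
  let f : T →* Multiplicative F := MonoidHom.mk' (fun t => Multiplicative.ofAdd (g t)) (by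
    intro a b
    rw [hg]
    rfl)
  have hf : ∀ t, t ∈ f.ker ↔ g t = 0 := fun t => by
    rw [MonoidHom.mem_ker]
    exact ofAdd_eq_one
  have htop : f.ker = ⊤ := H.gen_top hxy f.ker
    (fun u hu => (hf _).mpr (hα _ ((hf _).mp hu)))
    (fun v hv => (hf _).mpr (hV v hv)) ((hf _).mpr hx) ((hf _).mpr hy)
  exact (hf t).mp (by rw [htop]; trivial)

end Setup

/-- Field data. -/
lemma exists_zeta : ∃ ζ : F, ζ ^ 5 = 1 ∧ 1 + ζ + ζ ^ 2 + ζ ^ 3 + ζ ^ 4 = 0 := by
  classical
  obtain ⟨g, hg⟩ := IsCyclic.exists_generator (α := Fˣ)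
  have hcard : Fintype.card Fˣ = 15 := by
    rw [Fintype.card_units, hf.out]
  have hord : orderOf g = 15 := by
    rw [orderOf_eq_card_of_forall_mem_zpowers hg, Nat.card_eq_fintype_card, hcard]
  let ζ : F := ((g ^ 3 : Fˣ) : F)
  have h5 : ζ ^ 5 = 1 := by
    have : (g ^ 3) ^ 5 = 1 := by
      rw [← pow_mul]
      have : 3 * 5 = orderOf g := by rw [hord]
      rw [this, pow_orderOf_eq_one]
    have h2 := congrArg (fun u : Fˣ => (u : F)) this
    simpa [ζ] using h2
  have hne : ζ ≠ 1 := by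
    intro h
    have h3 : g ^ 3 = 1 := Units.ext h
    have := orderOf_dvd_of_pow_eq_one h3
    rw [hord] at this
    omega
  refine ⟨ζ, h5, ?_⟩
  have h1 : (ζ - 1) * (1 + ζ + ζ ^ 2 + ζ ^ 3 + ζ ^ 4) = 0 := by
    linear_combination h5
  rcases mul_eq_zero.mp h1 with h | h
  · exact absurd (sub_eq_zero.mp h) hne
  · exact h

namespace Setup

/-- Data for the map `V → F`. -/
structure Dat (S : Setup α V) (ω : F) (θ : T → F) : Prop where
  hω : ω ^ 2 + ω + 1 = 0
  add : ∀ v ∈ V, ∀ w ∈ V, θ (v * w) = θ v + θ w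
  map : ∀ v ∈ V, θ (α v) = ω ^ 2 * θ v
  zero : ∀ v ∈ V, θ v = 0 → v = 1
  frob : ∀ v ∈ V, (θ v) ^ 4 = θ v

variable {S : Setup α V}

lemma Dat.cube {ω : F} {θ : T → F} (D : Dat S ω θ) : ω ^ 3 = 1 := by
  have h2 := two0 (F := F)
  linear_combination (ω - 1) * D.hω

lemma Dat.one {ω : F} {θ : T → F} (D : Dat S ω θ) : θ 1 = 0 := by
  have := D.add 1 V.one_mem 1 V.one_mem
  rw [mul_one] at this
  linear_combination - this

lemma Dat.map2 {ω : F} {θ : T → F} (D : Dat S ω θ) {v : T} (hv : v ∈ V) : θ (α (α v)) = ω * θ v := by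
  rw [D.map _ (S.map_V hv), D.map _ hv]
  linear_combination (ω * θ v) * D.cube

/-- Construction of `θ`. -/
theorem exists_theta (S : Setup α V) {v₀ : T} (hv₀ : v₀ ∈ V) (h1 : v₀ ≠ 1) {ω : F}
    (hω : ω ^ 2 + ω + 1 = 0) : ∃ θ : T → F, Dat S ω θ ∧ θ v₀ = 1 := by
  classical
  have h2 := two0 (F := F)
  have hω3 : ω ^ 3 = 1 := by linear_combination (ω - 1) * hω
  have hω4 : ω ^ 4 = ω := by linear_combination ω * hω3
  have hω0 : ω ≠ 0 := by
    rintro rfl
    norm_num at hω
  have hω2 : ω ^ 2 ≠ 0 := pow_ne_zero _ hω0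
  obtain ⟨a1, a2, a3⟩ := S.ne_of_ne_one hv₀ h1
  have hav1 : α v₀ ≠ 1 := by
    intro h; apply h1; apply α.injective; rw [h, map_one]
  have haav1 : α (α v₀) ≠ 1 := by
    intro h; apply hav1; apply α.injective; rw [h, map_one]
  let θ : T → F := fun v => if v = v₀ then 1 else if v = α v₀ then ω ^ 2 else if v = α (α v₀) then ω else 0
  have e0 : θ 1 = 0 := by
    simp [θ, h1.symm, hav1.symm, haav1.symm]
  have e1 : θ v₀ = 1 := by simp [θ]
  have e2 : θ (α v₀) = ω ^ 2 := by simp [θ, a1]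
  have e3 : θ (α (α v₀)) = ω := by simp [θ, a2, a3]
  have hav : α v₀ ∈ V := S.map_V hv₀
  have haav : α (α v₀) ∈ V := S.map_V hav
  have hθ3 : α (α v₀) = v₀ * α v₀ := S.V_third hv₀
  have p11 : v₀ * v₀ = 1 := (S.mem_V _).mp hv₀
  have p22 : α v₀ * α v₀ = 1 := (S.mem_V _).mp hav
  have p33 : α (α v₀) * α (α v₀) = 1 := (S.mem_V _).mp haav
  have p21 : α v₀ * v₀ = v₀ * α v₀ := S.central _ hav v₀
  have p12' : v₀ * α v₀ = α (α v₀) := hθ3.symm
  have p21' : α v₀ * v₀ = α (α v₀) := by rw [p21, p12']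
  have p13 : v₀ * α (α v₀) = α v₀ := by
    rw [hθ3, ← mul_assoc, p11, one_mul]
  have p31 : α (α v₀) * v₀ = α v₀ := by rw [← S.central _ hv₀, p13]
  have p23 : α v₀ * α (α v₀) = v₀ := by
    rw [hθ3, ← mul_assoc, p21, mul_assoc, p22, mul_one]
  have p32 : α (α v₀) * α v₀ = v₀ := by rw [← S.central _ hav, p23]
  have hcases : ∀ v ∈ V, v = 1 ∨ v = v₀ ∨ v = α v₀ ∨ v = α (α v₀) := fun v hv => S.V_cases hv₀ h1 hv
  refine ⟨θ, ⟨hω, ?_, ?_, ?_, ?_⟩, e1⟩
  · intro v hv w hw
    rcases hcases v hv with rfl | rfl | rfl | rfl <;> rcases hcases w hw with rfl | rfl | rfl | rfl <;>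
      simp only [p11, p12', p13, p21', p22, p23, p31, p32, p33, mul_one, one_mul, e0, e1, e2, e3, zero_add,
        add_zero]
    all_goals first
      | linear_combination - h2
      | linear_combination - hω + ω * h2
      | linear_combination hω - (ω + 1) * h2
      | linear_combination - ω ^ 2 * h2
      | linear_combination - hω + h2
      | linear_combination - ω * h2
  · intro v hv
    rcases hcases v hv with rfl | rfl | rfl | rfl
    · rw [map_one, e0, mul_zero]
    · rw [e1, e2, mul_one]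
    · rw [e2, e3]
      linear_combination - hω4
    · rw [S.V_cube hv₀, e1, e3]
      linear_combination - hω3
  · intro v hv h
    rcases hcases v hv with rfl | rfl | rfl | rfl
    · rfl
    · rw [e1] at h
      exact absurd h one_ne_zero
    · rw [e2] at h
      exact absurd h hω2
    · rw [e3] at h
      exact absurd h hω0
  · intro v hv
    rcases hcases v hv with rfl | rfl | rfl | rfl
    · rw [e0]; norm_num
    · rw [e1]; norm_num
    · rw [e2]
      linear_combination (ω ^ 5 + ω ^ 2) * hω3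
    · rw [e3]
      exact hω4

/-- Existence of a convenient pair `x, y`. -/
theorem NA.exists_xy (H : NA S) : ∃ x y : T, x * x = y * y ∧ ⁅x, y⁆ ≠ 1 ∧ ⁅x, y⁆ ≠ x * x := by
  classical
  haveI := S.fin
  -- `x ∉ V`
  obtain ⟨x, hx⟩ : ∃ x, x ∉ V := by
    by_contra hc
    push Not at hc
    have : V = ⊤ := by
      rw [eq_top_iff]
      intro x _
      exact hc x
    have h1 := S.card_V
    rw [this, Subgroup.card_top, H.card] at h1
    omega
  have hx1 : x * x ≠ 1 := fun h => hx ((S.mem_V x).mpr h)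
  have hxV : x * x ∈ V := H.sq x
  obtain ⟨z, hz⟩ : ∃ z : T, ⁅x, z⁆ ≠ 1 := by
    by_contra hc
    push Not at hc
    apply hx
    apply H.cen
    rw [Subgroup.mem_center_iff]
    intro g
    exact (commutatorElement_eq_one_iff_mul_comm.mp (hc g)).symm
  have hzV : z ∉ V := fun h => hz (H.cm_of_mem_right x h)
  have hz1 : z * z ≠ 1 := fun h => hzV ((S.mem_V z).mpr h)
  have hne : ∀ v : T, v ≠ 1 → α v ≠ 1 := by
    intro v hv h
    apply hv
    apply α.injective
    rw [h, map_one]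
  obtain ⟨y, hy, hxy⟩ : ∃ y, x * x = y * y ∧ ⁅x, y⁆ ≠ 1 := by
    rcases S.V_cases hxV hx1 (H.sq z) with h | h | h | h
    · exact absurd h hz1
    · exact ⟨z, h.symm, hz⟩
    · refine ⟨α (α z), ?_, ?_⟩
      · rw [← map_mul, ← map_mul, h, H.cube]
      · rw [H.cm_map_right, H.cm_map_right]
        exact hne _ (hne _ (hne _ (hne _ hz)))
    · refine ⟨α z, ?_, ?_⟩
      · rw [← map_mul, h, H.cube]
      · rw [H.cm_map_right]
        exact hne _ (hne _ hz)
  refine ⟨x, y, hy, hxy, ?_⟩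
  intro hc
  -- `(α x * y)² = 1`
  have h1 := H.sq_mul (α x) y
  have h2 : ⁅y, α x⁆ = α (α (x * x)) := by
    rw [H.cm_symm, H.cm_map2, hc]
  have h3 : (α x * α x) * (y * y) = α (x * x) * (x * x) := by
    rw [← hy, map_mul]
  rw [h2, h3] at h1
  have h4 : (α x * y) * (α x * y) = 1 := by
    rw [h1, ← S.central _ hxV (α (x * x))]
    exact S.V_prod hxV
  have h5 : α x * y ∈ V := (S.mem_V _).mpr h4
  have h6 := H.cm_of_mem_right x h5
  rw [H.cm_mul_right, H.cm_self_map, one_mul] at h6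
  exact hxy h6

/-- The main computation. -/
theorem NA.main_calc (H : NA S) {x y : T} (hxx : x * x = y * y) (hxy : ⁅x, y⁆ ≠ 1) {ω : F} {θ : T → F}
    (hD : Dat S ω θ) (hθ : θ (x * x) = 1) {u : F} (hu5 : u ^ 5 = 1) (hu : u + u ^ 4 = θ ⁅x, y⁆) :
    ∃ π : T → F, (∀ s t, π (s * t) = π s + π t) ∧ (∀ t, θ (t * t) = (π t) ^ 5) ∧ ∀ v ∈ V, π v = 0 := by
  have h2 := two0 (F := F)
  have hω := hD.hω
  have hω3 := hD.cube
  have hω4 : ω ^ 4 = ω := by linear_combination ω * hω3
  set c := θ ⁅x, y⁆ with hcdef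
  have hc0 : c ≠ 0 := fun h => hxy (hD.zero _ (H.cm_mem x y) h)
  let π : T → F := fun t => (θ ⁅t, x⁆ * u + θ ⁅t, y⁆) * c⁻¹
  have hπ : ∀ t, π t = (θ ⁅t, x⁆ * u + θ ⁅t, y⁆) * c⁻¹ := fun t => rfl
  have hadd : ∀ s t, π (s * t) = π s + π t := by
    intro s t
    simp only [hπ]
    rw [H.cm_mul_left, H.cm_mul_left, hD.add _ (H.cm_mem _ _) _ (H.cm_mem _ _),
      hD.add _ (H.cm_mem _ _) _ (H.cm_mem _ _)]
    ring
  have hmap : ∀ t, π (α t) = ω * π t := by
    intro t
    simp only [hπ]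
    rw [H.cm_map2, H.cm_map2, hD.map2 (H.cm_mem _ _), hD.map2 (H.cm_mem _ _)]
    ring
  have hV : ∀ v ∈ V, π v = 0 := by
    intro v hv
    simp only [hπ]
    rw [H.cm_of_mem_left hv, H.cm_of_mem_left hv, hD.one]
    ring
  have hπx : π x = 1 := by
    simp only [hπ]
    rw [commutatorElement_self, hD.one, zero_mul, zero_add]
    exact mul_inv_cancel₀ hc0
  have hπy : π y = u := by
    simp only [hπ]
    rw [commutatorElement_self, hD.one, add_zero, H.cm_symm y x]
    rw [← hcdef]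
    field_simp
  let D : T → T → F := fun s t => θ ⁅s, t⁆ + π s * (π t) ^ 4 + π t * (π s) ^ 4
  have hDdef : ∀ s t, D s t = θ ⁅s, t⁆ + π s * (π t) ^ 4 + π t * (π s) ^ 4 := fun _ _ => rfl
  have hD1 : ∀ s s' t, D (s * s') t = D s t + D s' t := by
    intro s s' t
    simp only [hDdef]
    rw [H.cm_mul_left, hD.add _ (H.cm_mem _ _) _ (H.cm_mem _ _), hadd, ad4]
    ring
  have hDα : ∀ s t, D (α s) t = ω * D s t := by
    intro s t
    simp only [hDdef]
    have e : (ω * π s) ^ 4 = ω * (π s) ^ 4 := by rw [mul_pow, hω4]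
    rw [H.cm_map2, hD.map2 (H.cm_mem _ _), hmap, e]
    ring
  have hDsym : ∀ s t, D s t = D t s := by
    intro s t
    simp only [hDdef]
    rw [H.cm_symm]
    ring
  have hDV : ∀ s, ∀ v ∈ V, D v s = 0 := by
    intro s v hv
    simp only [hDdef]
    rw [H.cm_of_mem_left hv, hD.one, hV v hv]
    ring
  have hxx0 : D x x = 0 := by
    simp only [hDdef]
    rw [commutatorElement_self, hD.one, hπx]
    linear_combination h2
  have hyy0 : D y y = 0 := by
    simp only [hDdef]
    rw [commutatorElement_self, hD.one, hπy]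
    linear_combination (u ^ 5) * h2
  have hxy0 : D x y = 0 := by
    simp only [hDdef]
    rw [hπx, hπy, ← hcdef, ← hu]
    linear_combination (u + u ^ 4) * h2
  have hyx0 : D y x = 0 := by rw [hDsym, hxy0]
  have h1 : ∀ s, D s x = 0 := H.zero_of_add hxy (fun s => D s x) (fun a b => hD1 a b x)
    (fun s hs => by
      change D (α s) x = 0
      rw [hDα]
      change D s x = 0 at hs
      rw [hs, mul_zero]) (fun v hv => hDV x v hv) hxx0 hyx0
  have h1' : ∀ s, D s y = 0 := H.zero_of_add hxy (fun s => D s y) (fun a b => hD1 a b y)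
    (fun s hs => by
      change D (α s) y = 0
      rw [hDα]
      change D s y = 0 at hs
      rw [hs, mul_zero]) (fun v hv => hDV y v hv) hxy0 hyy0
  have h3 : ∀ s t, D t s = 0 := by
    intro s
    exact H.zero_of_add hxy (fun t => D t s) (fun a b => hD1 a b s)
      (fun t ht => by
        change D (α t) s = 0
        rw [hDα]
        change D t s = 0 at ht
        rw [ht, mul_zero]) (fun v hv => hDV s v hv) (by rw [hDsym]; exact h1 s) (by rw [hDsym]; exact h1' s)
  let G : T → F := fun t => θ (t * t) + (π t) ^ 5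
  have hG : ∀ s t, G (s * t) = G s + G t := by
    intro s t
    change θ ((s * t) * (s * t)) + (π (s * t)) ^ 5 = (θ (s * s) + (π s) ^ 5) + (θ (t * t) + (π t) ^ 5)
    have hq := h3 s t
    rw [hDdef] at hq
    have e5 : (π s + π t) ^ 5 = (π s + π t) * ((π s) ^ 4 + (π t) ^ 4) := by rw [← ad4]; ring
    rw [H.sq_mul, hD.add _ (V.mul_mem (H.sq _) (H.sq _)) _ (H.cm_mem _ _), hD.add _ (H.sq _) _ (H.sq _),
      hadd, e5]
    linear_combination hq
  have hGα : ∀ s, G s = 0 → G (α s) = 0 := by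
    intro s hs
    change θ (s * s) + (π s) ^ 5 = 0 at hs
    change θ ((α s) * (α s)) + (π (α s)) ^ 5 = 0
    rw [← map_mul, hD.map _ (H.sq s), hmap, mul_pow]
    linear_combination ω ^ 2 * hs + (π s) ^ 5 * (ω ^ 2) * hω3
  have hG0 : ∀ t, G t = 0 := H.zero_of_add hxy G hG hGα
    (fun v hv => by
      change θ (v * v) + (π v) ^ 5 = 0
      rw [(S.mem_V v).mp hv, hD.one, hV v hv]
      norm_num)
    (by
      change θ (x * x) + (π x) ^ 5 = 0
      rw [hθ, hπx]
      linear_combination h2)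
    (by
      change θ (y * y) + (π y) ^ 5 = 0
      rw [← hxx, hθ, hπy, hu5]
      linear_combination h2)
  refine ⟨π, hadd, ?_, hV⟩
  intro t
  have := hG0 t
  change θ (t * t) + (π t) ^ 5 = 0 at this
  linear_combination this - (π t) ^ 5 * h2

/-- **The isomorphism with the model.** -/
theorem NA.iso_H (H : NA S) : Nonempty (T ≃* U34.H F) := by
  classical
  haveI := S.fin
  have h2 := two0 (F := F)
  obtain ⟨ζ, hζ5, hζs⟩ := exists_zeta (F := F)
  have hω : (ζ + ζ ^ 4) ^ 2 + (ζ + ζ ^ 4) + 1 = 0 := by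
    linear_combination hζs + ζ ^ 3 * hζ5 + ζ ^ 5 * h2
  obtain ⟨x, y, hxx, hxy, hxc⟩ := H.exists_xy
  have hxV : x * x ∈ V := H.sq x
  have hx1 : x * x ≠ 1 := by
    intro h
    exact hxy (H.cm_of_mem_left ((S.mem_V x).mpr h) y)
  obtain ⟨θ, hD, hθ⟩ := S.exists_theta hxV hx1 hω
  obtain ⟨u, hu5, hu⟩ : ∃ u : F, u ^ 5 = 1 ∧ u + u ^ 4 = θ ⁅x, y⁆ := by
    rcases S.V_cases hxV hx1 (H.cm_mem x y) with h | h | h | h
    · exact absurd h hxy
    · exact absurd h hxc
    · refine ⟨ζ ^ 2, ?_, ?_⟩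
      · linear_combination (ζ ^ 5 + 1) * hζ5
      · rw [h, hD.map _ hxV, hθ, mul_one]
        linear_combination - ζ ^ 5 * h2
    · refine ⟨ζ, hζ5, ?_⟩
      rw [h, hD.map2 hxV, hθ, mul_one]
  obtain ⟨π, hadd, hsq, hV⟩ := H.main_calc hxx hxy hD hθ hu5 hu
  let π₁ : T →* Multiplicative F := MonoidHom.mk' (fun t => Multiplicative.ofAdd (π t)) (by
    intro a b
    rw [hadd]
    rfl)
  have hker₁ : ∀ t, t ∈ π₁.ker ↔ t ∈ V := by
    intro t
    rw [MonoidHom.mem_ker]
    have : π₁ t = 1 ↔ π t = 0 := ofAdd_eq_one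
    rw [this]
    constructor
    · intro h
      have h3 := hsq t
      rw [h] at h3
      have : t * t = 1 := hD.zero _ (H.sq t) (by rw [h3]; simp)
      exact (S.mem_V t).mpr this
    · exact hV t
  have hkereq : π₁.ker = V := by
    ext t
    exact hker₁ t
  have h16 : Nat.card (Multiplicative F) = 16 := by
    rw [Nat.card_congr Multiplicative.ofAdd.symm, Nat.card_eq_fintype_card, hf.out]
  have hsurj₁ : Function.Surjective π₁ := by
    rw [← MonoidHom.range_eq_top]
    apply Subgroup.eq_top_of_card_eq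
    have h1 := π₁.ker.card_mul_index
    rw [Subgroup.index_ker, hkereq, S.card_V, H.card] at h1
    rw [h16]
    omega
  let π₂ : U34.H F →* Multiplicative F := MonoidHom.mk' (fun x => Multiplicative.ofAdd x.1.1) (by
    intro a b
    rfl)
  have hker₂ : ∀ x, x ∈ π₂.ker ↔ x.1.1 = 0 := by
    intro x
    rw [MonoidHom.mem_ker]
    exact ofAdd_eq_one
  have hsurj₂ : Function.Surjective π₂ := by
    intro a
    exact ⟨⟨(Multiplicative.toAdd a, U34.sec (Multiplicative.toAdd a)), U34.sec_spec _⟩, rfl⟩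
  have hc₁ : ∀ v ∈ π₁.ker, ∀ x : T, v * x = x * v := fun v hv x => S.central v ((hker₁ v).mp hv) x
  have hc₂ : ∀ v ∈ π₂.ker, ∀ x : U34.H F, v * x = x * v := fun v hv x =>
    (Subgroup.mem_center_iff.mp ((U34.mem_center_H v).mpr ((hker₂ v).mp hv)) x).symm
  have hfinH : Finite (U34.H F) := Nat.finite_of_card_ne_zero (by rw [U34.card_H]; norm_num)
  have hcard₁ : Nat.card π₁.ker = 4 := by
    rw [hkereq]
    exact S.card_V
  have hcard₂ : Nat.card π₂.ker = 4 := by
    have h1 := π₂.ker.card_mul_index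
    rw [Subgroup.index_ker, U34.card_H, MonoidHom.range_eq_top.mpr hsurj₂, Subgroup.card_top, h16] at h1
    omega
  let f : π₁.ker →* π₂.ker := MonoidHom.mk' (fun v => ⟨⟨(0, θ v.1), by
      change θ v.1 + θ v.1 ^ 4 = 0 ^ 5
      rw [hD.frob _ ((hker₁ _).mp v.2)]
      simp only [ne_eq, OfNat.ofNat_ne_zero, not_false_eq_true, zero_pow]
      linear_combination θ v.1 * h2⟩, (hker₂ _).mpr rfl⟩) (by
    intro a b
    apply Subtype.ext
    apply U34.H_ext
    · change (0 : F) = 0 + 0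
      simp
    · change θ (a.1 * b.1) = θ a.1 + θ b.1 + 0 * (0 : F) ^ 4
      rw [hD.add _ ((hker₁ _).mp a.2) _ ((hker₁ _).mp b.2)]
      ring)
  have hfinj : Function.Injective f := by
    rw [injective_iff_map_eq_one]
    intro a ha
    apply Subtype.ext
    have h3 : θ a.1 = 0 := by
      have := congrArg (fun z : π₂.ker => z.1.1.2) ha
      exact this
    exact hD.zero _ ((hker₁ _).mp a.2) h3
  have hfbij : Function.Bijective f :=
    (Nat.bijective_iff_injective_and_card f).mpr ⟨hfinj, by rw [hcard₁, hcard₂]⟩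
  let θ' : π₁.ker ≃* π₂.ker := MulEquiv.ofBijective f hfbij
  apply iso_of_quadratic π₁ π₂ hsurj₁ hsurj₂ θ' hc₁ hc₂
  intro x₁ x₂ hx
  have hx' : π x₁ = x₂.1.1 := hx
  refine ⟨(hker₁ _).mpr (H.sq x₁), ?_⟩
  apply U34.H_ext
  · exact (U34.sq_fst x₂).symm
  · change θ (x₁ * x₁) = (x₂ * x₂).1.2
    rw [U34.sq_snd, hsq, hx']

end Setup

end Cfsg.Agent.Lib.TwoFusion.Hig
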