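import Cfsg.Agent.Lib.TwoFusion.Hig.Max

/-!
# The action on a self-centralizing invariant abelian subgroup
-/

set_option autoImplicit false
set_option linter.unusedSectionVars false
set_option linter.unusedVariables false
set_option linter.style.haveILetI false

namespace Cfsg.Agent.Lib.TwoFusion.Hig

open scoped commutatorElement

variable {T : Type*} [Group T] {α : MulAut T} {V : Subgroup T}

/-- Centralizer of the `2^k`-th powers of `A`. -/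
def Yk (A : Subgroup T) (k : ℕ) : Subgroup T where
  carrier := {y | ∀ a ∈ A, ⁅y, a ^ 2 ^ k⁆ = 1}
  one_mem' := by
    intro a _
    simp [commutatorElement_def]
  mul_mem' := by
    intro x y hx hy a ha
    have h1 := commutatorElement_eq_one_iff_mul_comm.mp (hx a ha)
    have h2 := commutatorElement_eq_one_iff_mul_comm.mp (hy a ha)
    rw [commutatorElement_eq_one_iff_mul_comm]
    rw [mul_assoc, h2, ← mul_assoc, h1, mul_assoc]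
  inv_mem' := by
    intro x hx a ha
    have h1 := commutatorElement_eq_one_iff_mul_comm.mp (hx a ha)
    rw [commutatorElement_eq_one_iff_mul_comm]
    calc x⁻¹ * a ^ 2 ^ k = x⁻¹ * (a ^ 2 ^ k * x) * x⁻¹ := by group
      _ = x⁻¹ * (x * a ^ 2 ^ k) * x⁻¹ := by rw [h1]
      _ = a ^ 2 ^ k * x⁻¹ := by group

lemma mem_Yk {A : Subgroup T} {k : ℕ} {y : T} : y ∈ Yk A k ↔ ∀ a ∈ A, ⁅y, a ^ 2 ^ k⁆ = 1 := Iff.rfl

namespace Setup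

section

variable {A : Subgroup T} [hA : A.Normal]

lemma cm_mem (y : T) {a : T} (ha : a ∈ A) : ⁅y, a⁆ ∈ A := by
  rw [commutatorElement_def]
  exact A.mul_mem (hA.conj_mem a ha y) (A.inv_mem ha)

lemma cm_mul (h : ∀ a ∈ A, ∀ b ∈ A, a * b = b * a) (y : T) {a b : T} (ha : a ∈ A) (hb : b ∈ A) :
    ⁅y, a * b⁆ = ⁅y, a⁆ * ⁅y, b⁆ := by
  simp only [commutatorElement_def]
  have hq : y * b * y⁻¹ ∈ A := hA.conj_mem b hb y
  have h1 : a⁻¹ * (y * b * y⁻¹) = (y * b * y⁻¹) * a⁻¹ := h _ (A.inv_mem ha) _ hq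
  have h2 : a⁻¹ * b⁻¹ = b⁻¹ * a⁻¹ := h _ (A.inv_mem ha) _ (A.inv_mem hb)
  calc y * (a * b) * y⁻¹ * (a * b)⁻¹ = (y * a * y⁻¹) * (y * b * y⁻¹) * (b⁻¹ * a⁻¹) := by group
    _ = (y * a * y⁻¹) * (y * b * y⁻¹) * (a⁻¹ * b⁻¹) := by rw [h2]
    _ = (y * a * y⁻¹) * (a⁻¹ * (y * b * y⁻¹)) * b⁻¹ := by rw [h1]; group
    _ = y * a * y⁻¹ * a⁻¹ * (y * b * y⁻¹ * b⁻¹) := by group

lemma cm_pow (h : ∀ a ∈ A, ∀ b ∈ A, a * b = b * a) (y : T) {a : T} (ha : a ∈ A) (k : ℕ) :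
    ⁅y, a ^ k⁆ = ⁅y, a⁆ ^ k := by
  induction k with
  | zero => simp [commutatorElement_def]
  | succ k ih =>
    rw [pow_succ, cm_mul h y (A.pow_mem ha k) ha, ih, pow_succ]

lemma cm_one_of_mem_V (S : Setup α V) (y : T) {v : T} (hv : v ∈ V) : ⁅y, v⁆ = 1 := by
  rw [commutatorElement_eq_one_iff_mul_comm]
  exact (S.central v hv y).symm

variable {n : ℕ}

/-- Conjugation acts trivially on `A / A²`. -/
lemma cm_mem_Sq (S : Setup α V) (h : AbSub A α V) (e : Exp A n) (y : T) {a : T} (ha : a ∈ A) :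
    ⁅y, a⁆ ∈ Sq A h.comm := by
  apply S.mem_Sq_of_pow h e (cm_mem y ha)
  rw [← cm_pow h.comm y ha]
  exact S.cm_one_of_mem_V y (S.pow_mem_V e ha)

lemma Yk_inv (S : Setup α V) (h : AbSub A α V) (k : ℕ) : ∀ y ∈ Yk A k, α y ∈ Yk A k := by
  intro y hy a ha
  have h1 := hy (α.symm a) (S.symm_mem A h.inv ha)
  have h2 := congrArg α h1
  rw [map_commutatorElement, map_pow, map_one] at h2
  simpa using h2

lemma Yk_top (S : Setup α V) (h : AbSub A α V) (e : Exp A n) (y : T) : y ∈ Yk A (n - 1) := by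
  intro a ha
  exact S.cm_one_of_mem_V y (S.pow_mem_V e ha)

/-- `α³` acts trivially on `A/A²`. -/
lemma cube_mod (S : Setup α V) (h : AbSub A α V) {a : T} (ha : a ∈ A) :
    a⁻¹ * α (α (α a)) ∈ Sq A h.comm := by
  by_cases hs : a ∈ Sq A h.comm
  · exact (Sq A h.comm).mul_mem ((Sq A h.comm).inv_mem hs) (Sq_inv h _ (Sq_inv h _ (Sq_inv h _ hs)))
  have hi := S.relIndex_Sq h
  obtain ⟨-, h2⟩ := S.four_cosets (Sq A h.comm) A Sq_le (Sq_inv h) h.inv hi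
    (fun x hx y hy => by
      rw [h.comm x hx y hy]
      simp [Subgroup.one_mem])
    (fun x hx => ⟨x, hx, rfl⟩) ha hs
  set s := (a * α a)⁻¹ * α (α a) with hsdef
  have hsA : s ∈ A := Sq_le h2
  have haa : α a ∈ A := h.inv a ha
  have e1 : α (α a) = a * α a * s := by rw [hsdef]; group
  have e2 : α (α (α a)) = α a * (a * α a * s) * α s := by
    rw [e1, map_mul, map_mul, e1]
  have hc : α a * a = a * α a := h.comm _ haa _ ha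
  have e3 : a⁻¹ * α (α (α a)) = (α a * α a) * (s * α s) := by
    rw [e2]
    calc a⁻¹ * (α a * (a * α a * s) * α s) = a⁻¹ * ((α a * a) * α a * s * α s) := by group
      _ = a⁻¹ * ((a * α a) * α a * s * α s) := by rw [hc]
      _ = (α a * α a) * (s * α s) := by group
  rw [e3]
  exact (Sq A h.comm).mul_mem ⟨α a, haa, rfl⟩ ((Sq A h.comm).mul_mem h2 (Sq_inv h _ h2))

/-- The function `x ↦ [y, x^(2^k)]`. -/
lemma F_mem_V (S : Setup α V) (h : AbSub A α V) {k : ℕ} {y : T} (hy : y ∈ Yk A (k + 1)) {x : T} (hx : x ∈ A) :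
    ⁅y, x ^ 2 ^ k⁆ ∈ V := by
  rw [S.mem_V]
  have h1 := hy x hx
  rw [pow_succ 2 k, pow_mul, pow_two, cm_mul h.comm y (A.pow_mem hx _) (A.pow_mem hx _)] at h1
  exact h1

lemma F_mul_x (h : AbSub A α V) {k : ℕ} (y : T) {x x' : T} (hx : x ∈ A) (hx' : x' ∈ A) :
    ⁅y, (x * x') ^ 2 ^ k⁆ = ⁅y, x ^ 2 ^ k⁆ * ⁅y, x' ^ 2 ^ k⁆ := by
  rw [comm_pow h.comm hx hx', cm_mul h.comm y (A.pow_mem hx _) (A.pow_mem hx' _)]

lemma F_sq (h : AbSub A α V) {k : ℕ} {y : T} (hy : y ∈ Yk A (k + 1)) {x : T} (hx : x ∈ Sq A h.comm) :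
    ⁅y, x ^ 2 ^ k⁆ = 1 := by
  obtain ⟨c, hc, rfl⟩ := hx
  rw [← pow_two, ← pow_mul, ← pow_succ']
  exact hy c hc

lemma F_congr (h : AbSub A α V) {k : ℕ} {y : T} (hy : y ∈ Yk A (k + 1)) {x x' : T} (hx : x ∈ A)
    (hxx : x⁻¹ * x' ∈ Sq A h.comm) : ⁅y, x' ^ 2 ^ k⁆ = ⁅y, x ^ 2 ^ k⁆ := by
  have e : x' = x * (x⁻¹ * x') := by group
  have hs : x⁻¹ * x' ∈ A := Sq_le hxx
  rw [e, F_mul_x h y hx hs, F_sq h hy hxx, mul_one]

lemma F_mul_y (S : Setup α V) (h : AbSub A α V) {k : ℕ} (y : T) {z : T} (hz : z ∈ Yk A (k + 1)) {x : T}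
    (hx : x ∈ A) : ⁅y * z, x ^ 2 ^ k⁆ = ⁅y, x ^ 2 ^ k⁆ * ⁅z, x ^ 2 ^ k⁆ := by
  set b := x ^ 2 ^ k with hb
  have hc : ⁅z, b⁆ ∈ V := S.F_mem_V h hz hx
  have hcc := S.central _ hc
  simp only [commutatorElement_def] at hcc ⊢
  set c := z * b * z⁻¹ * b⁻¹ with hcdef
  have e : z * b * z⁻¹ = c * b := by rw [hcdef]; group
  calc y * z * b * (y * z)⁻¹ * b⁻¹ = y * (z * b * z⁻¹) * y⁻¹ * b⁻¹ := by group
    _ = y * (c * b) * y⁻¹ * b⁻¹ := by rw [e]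
    _ = (y * c) * b * y⁻¹ * b⁻¹ := by group
    _ = (c * y) * b * y⁻¹ * b⁻¹ := by rw [hcc y]
    _ = c * (y * b * y⁻¹ * b⁻¹) := by group
    _ = (y * b * y⁻¹ * b⁻¹) * c := by rw [hcc]

lemma F_inv_y (S : Setup α V) (h : AbSub A α V) {k : ℕ} {z : T} (hz : z ∈ Yk A (k + 1)) {x : T}
    (hx : x ∈ A) : ⁅z⁻¹, x ^ 2 ^ k⁆ = ⁅z, x ^ 2 ^ k⁆⁻¹ := by
  have h1 := S.F_mul_y h z⁻¹ hz hx
  rw [inv_mul_cancel] at h1
  have h2 : ⁅(1 : T), x ^ 2 ^ k⁆ = 1 := by simp [commutatorElement_def]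
  rw [h2] at h1
  exact eq_inv_of_mul_eq_one_left h1.symm

lemma F_map (k : ℕ) (y x : T) : ⁅α y, (α x) ^ 2 ^ k⁆ = α ⁅y, x ^ 2 ^ k⁆ := by
  rw [map_commutatorElement, map_pow]

/-- **The level lemma.** -/
theorem level (S : Setup α V) (h : AbSub A α V) {k : ℕ} {y : T} (hy : y ∈ Yk A (k + 1)) {e₀ : T}
    (he₀ : e₀ ∈ A) (hs : e₀ ∉ Sq A h.comm) (hc : ⁅y, e₀ ^ 2 ^ k⁆ = 1) : y ∈ Yk A k := by
  have hi := S.relIndex_Sq h
  obtain ⟨hcov, h2⟩ := S.four_cosets (Sq A h.comm) A Sq_le (Sq_inv h) h.inv hi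
    (fun x hx y hy => by
      rw [h.comm x hx y hy]
      simp)
    (fun x hx => ⟨x, hx, rfl⟩) he₀ hs
  have hae : α e₀ ∈ A := h.inv _ he₀
  have haae : α (α e₀) ∈ A := h.inv _ hae
  have hcube := S.cube_mod h he₀
  have hYα := S.Yk_inv h (k + 1)
  have hy1 : α y ∈ Yk A (k + 1) := hYα _ hy
  have hy2 : α (α y) ∈ Yk A (k + 1) := hYα _ hy1
  have hy3 : α (α (α y)) ∈ Yk A (k + 1) := hYα _ hy2
  set v := ⁅y, (α e₀) ^ 2 ^ k⁆ with hv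
  have hvV : v ∈ V := S.F_mem_V h hy hae
  have hF2 : ⁅y, (α (α e₀)) ^ 2 ^ k⁆ = v := by
    rw [F_congr h hy (A.mul_mem he₀ hae) h2, F_mul_x h y he₀ hae, hc, one_mul]
  have hF3 : ⁅α y, e₀ ^ 2 ^ k⁆ = α v := by
    rw [← F_congr h hy1 he₀ hcube, F_map, hF2]
  have hF4 : ⁅α (α y), e₀ ^ 2 ^ k⁆ = α (α v) := by
    rw [← F_congr h hy2 he₀ hcube, F_map, F_map]
  set u := y * α y * α (α y) with hu
  have huY : u ∈ Yk A (k + 1) := (Yk A (k + 1)).mul_mem ((Yk A (k + 1)).mul_mem hy hy1) hy2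
  have hFu : ∀ x ∈ A, ⁅u, x ^ 2 ^ k⁆ = ⁅y, x ^ 2 ^ k⁆ * ⁅α y, x ^ 2 ^ k⁆ * ⁅α (α y), x ^ 2 ^ k⁆ := by
    intro x hx
    rw [hu, S.F_mul_y h _ hy2 hx, S.F_mul_y h _ hy1 hx]
  have hFu0 : ⁅u, e₀ ^ 2 ^ k⁆ = α v * α (α v) := by
    rw [hFu e₀ he₀, hc, one_mul, hF3, hF4]
  -- `u` is fixed modulo the centralizer
  have huN : u ∈ Yk A k := by
    apply S.mem_of_fixed_mod (Yk A k) (S.Yk_inv h k)
    intro a ha
    have hαu : α u = α y * α (α y) * α (α (α y)) := by simp [hu, map_mul]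
    have hαuY : α u ∈ Yk A (k + 1) := hYα _ huY
    rw [S.F_mul_y h _ hαuY ha, S.F_inv_y h huY ha]
    have h3 : ⁅α u, a ^ 2 ^ k⁆ = ⁅y, a ^ 2 ^ k⁆ * ⁅α y, a ^ 2 ^ k⁆ * ⁅α (α y), a ^ 2 ^ k⁆ := by
      rw [hαu, S.F_mul_y h _ hy3 ha, S.F_mul_y h _ hy2 ha]
      have hcub := S.cube_mod h ha
      have e4 : ⁅α (α (α y)), a ^ 2 ^ k⁆ = ⁅y, a ^ 2 ^ k⁆ := by
        rw [← F_congr h hy3 ha hcub, F_map, F_map, F_map]
        exact S.V_cube (S.F_mem_V h hy ha)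
      rw [e4]
      have hc1 := S.central _ (S.F_mem_V h hy ha)
      calc ⁅α y, a ^ 2 ^ k⁆ * ⁅α (α y), a ^ 2 ^ k⁆ * ⁅y, a ^ 2 ^ k⁆
          = ⁅α y, a ^ 2 ^ k⁆ * (⁅α (α y), a ^ 2 ^ k⁆ * ⁅y, a ^ 2 ^ k⁆) := by group
        _ = ⁅α y, a ^ 2 ^ k⁆ * (⁅y, a ^ 2 ^ k⁆ * ⁅α (α y), a ^ 2 ^ k⁆) := by rw [hc1]
        _ = (⁅α y, a ^ 2 ^ k⁆ * ⁅y, a ^ 2 ^ k⁆) * ⁅α (α y), a ^ 2 ^ k⁆ := by group
        _ = (⁅y, a ^ 2 ^ k⁆ * ⁅α y, a ^ 2 ^ k⁆) * ⁅α (α y), a ^ 2 ^ k⁆ := by rw [hc1]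
    rw [h3, ← hFu a ha]
    group
  have hv1 : v = 1 := by
    have h4 := huN e₀ he₀
    rw [hFu0] at h4
    have h5 := S.V_prod hvV
    rw [mul_assoc, h4, mul_one] at h5
    exact h5
  -- conclude
  intro x hx
  rcases hcov x hx with h6 | h6 | h6 | h6
  · exact F_sq h hy h6
  · rw [F_congr h hy he₀ h6, hc]
  · rw [F_congr h hy hae h6, ← hv, hv1]
  · rw [F_congr h hy (A.mul_mem he₀ hae) h6, F_mul_x h y he₀ hae, hc, ← hv, hv1, one_mul]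

end

end Setup

end Cfsg.Agent.Lib.TwoFusion.Hig
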