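import Cfsg.Agent.Lib.TwoFusion.Hig.Homo
import Cfsg.Agent.Lib.TwoFusion.SecRank

/-!
# Maximal invariant abelian normal subgroups are self-centralizing
-/

set_option autoImplicit false
set_option linter.unusedSectionVars false
set_option linter.unusedVariables false
set_option linter.style.haveILetI false

namespace Cfsg.Agent.Lib.TwoFusion.Hig

open scoped commutatorElement

variable {T : Type*} [Group T] {α : MulAut T} {V : Subgroup T}

namespace Setup

/-- The inverse of `α` is a power of `α`; invariant subgroups are preserved. -/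
lemma symm_mem (S : Setup α V) (N : Subgroup T) (hN : ∀ n ∈ N, α n ∈ N) {x : T} (hx : x ∈ N) :
    α.symm x ∈ N := by
  apply S.mem_of_map_mem N hN
  simpa using hx

lemma V_le_Sq (S : Setup α V) {A : Subgroup T} (h : AbSub A α V) (hne : A ≠ V) : V ≤ Sq A h.comm := by
  apply S.V_le_of_invariant _ _ (Sq_inv h)
  intro hbot
  apply hne
  apply le_antisymm _ h.hV
  intro a ha
  rw [S.mem_V]
  have : a * a ∈ Sq A h.comm := ⟨a, ha, rfl⟩
  rw [hbot, Subgroup.mem_bot] at this
  exact this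

/-- The section above a maximal invariant abelian normal subgroup. -/
def DD (A : Subgroup T) [A.Normal] : Subgroup T where
  carrier := {x | (∀ a ∈ A, x * a = a * x) ∧ x * x ∈ A ∧ ∀ s : T, x * s * x⁻¹ * s⁻¹ ∈ A}
  one_mem' := by
    refine ⟨by simp, by simp [A.one_mem], by simp [A.one_mem]⟩
  mul_mem' := by
    rintro x y ⟨hx1, hx2, hx3⟩ ⟨hy1, hy2, hy3⟩
    have hπ : ∀ z : T, (QuotientGroup.mk' A) z = 1 ↔ z ∈ A := fun z => QuotientGroup.eq_one_iff z
    have hcen : ∀ z, (∀ s : T, z * s * z⁻¹ * s⁻¹ ∈ A) → ∀ s, (QuotientGroup.mk' A) z * (QuotientGroup.mk' A) s =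
        (QuotientGroup.mk' A) s * (QuotientGroup.mk' A) z := by
      intro z hz s
      have h := (hπ _).mpr (hz s)
      simp only [map_mul, map_inv] at h
      set p := (QuotientGroup.mk' A) z
      set q := (QuotientGroup.mk' A) s
      calc p * q = (p * q * p⁻¹ * q⁻¹) * (q * p) := by group
        _ = q * p := by rw [h, one_mul]
    refine ⟨?_, ?_, ?_⟩
    · intro a ha
      rw [mul_assoc, hy1 a ha, ← mul_assoc, hx1 a ha, mul_assoc]
    · rw [← hπ]
      have h1 := (hπ _).mpr hx2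
      have h2 := (hπ _).mpr hy2
      simp only [map_mul] at h1 h2 ⊢
      have hc := hcen x hx3 (y)
      calc (QuotientGroup.mk' A) x * (QuotientGroup.mk' A) y * ((QuotientGroup.mk' A) x * (QuotientGroup.mk' A) y)
          = (QuotientGroup.mk' A) x * ((QuotientGroup.mk' A) y * (QuotientGroup.mk' A) x) * (QuotientGroup.mk' A) y := by group
        _ = (QuotientGroup.mk' A) x * ((QuotientGroup.mk' A) x * (QuotientGroup.mk' A) y) * (QuotientGroup.mk' A) y := by rw [hc]
        _ = ((QuotientGroup.mk' A) x * (QuotientGroup.mk' A) x) * ((QuotientGroup.mk' A) y * (QuotientGroup.mk' A) y) := by group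
        _ = 1 := by rw [h1, h2, one_mul]
    · intro s
      rw [← hπ]
      simp only [map_mul, map_inv]
      have hc1 := hcen x hx3 s
      have hc2 := hcen y hy3 s
      set p := (QuotientGroup.mk' A) x
      set q := (QuotientGroup.mk' A) y
      set r := (QuotientGroup.mk' A) s
      calc p * q * r * (p * q)⁻¹ * r⁻¹ = p * (q * r) * q⁻¹ * p⁻¹ * r⁻¹ := by group
        _ = p * (r * q) * q⁻¹ * p⁻¹ * r⁻¹ := by rw [hc2]
        _ = (p * r) * p⁻¹ * r⁻¹ := by group
        _ = (r * p) * p⁻¹ * r⁻¹ := by rw [hc1]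
        _ = 1 := by group
  inv_mem' := by
    rintro x ⟨hx1, hx2, hx3⟩
    have hπ : ∀ z : T, (QuotientGroup.mk' A) z = 1 ↔ z ∈ A := fun z => QuotientGroup.eq_one_iff z
    have h0 := (hπ _).mpr hx2
    refine ⟨?_, ?_, ?_⟩
    · intro a ha
      have := hx1 a ha
      calc x⁻¹ * a = x⁻¹ * (a * x) * x⁻¹ := by group
        _ = x⁻¹ * (x * a) * x⁻¹ := by rw [this]
        _ = a * x⁻¹ := by group
    · have : x⁻¹ * x⁻¹ = (x * x)⁻¹ := by group
      rw [this]
      exact A.inv_mem hx2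
    · intro s
      rw [← hπ]
      have h := (hπ _).mpr (hx3 s)
      simp only [map_mul, map_inv] at h ⊢
      set p := (QuotientGroup.mk' A) x
      set r := (QuotientGroup.mk' A) s
      have hc : p * r = r * p := by
        calc p * r = (p * r * p⁻¹ * r⁻¹) * (r * p) := by group
          _ = r * p := by rw [h, one_mul]
      rw [inv_inv]
      calc p⁻¹ * r * p * r⁻¹ = p⁻¹ * (r * p) * r⁻¹ := by group
        _ = p⁻¹ * (p * r) * r⁻¹ := by rw [hc]
        _ = 1 := by group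

lemma mem_DD {A : Subgroup T} [A.Normal] {x : T} :
    x ∈ DD A ↔ (∀ a ∈ A, x * a = a * x) ∧ x * x ∈ A ∧ ∀ s : T, x * s * x⁻¹ * s⁻¹ ∈ A := Iff.rfl

instance DD_normal (A : Subgroup T) [hA : A.Normal] : (DD A).Normal := ⟨by
  rintro x ⟨hx1, hx2, hx3⟩ g
  refine ⟨?_, ?_, ?_⟩
  · intro a ha
    have h := hx1 (g⁻¹ * a * g) (by
      have := hA.conj_mem a ha g⁻¹
      simpa using this)
    calc g * x * g⁻¹ * a = g * (x * (g⁻¹ * a * g)) * g⁻¹ := by group
      _ = g * ((g⁻¹ * a * g) * x) * g⁻¹ := by rw [h]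
      _ = a * (g * x * g⁻¹) := by group
  · have : g * x * g⁻¹ * (g * x * g⁻¹) = g * (x * x) * g⁻¹ := by group
    rw [this]
    exact hA.conj_mem _ hx2 g
  · intro s
    have h := hx3 (g⁻¹ * s * g)
    have := hA.conj_mem _ h g
    have e : g * (x * (g⁻¹ * s * g) * x⁻¹ * (g⁻¹ * s * g)⁻¹) * g⁻¹ =
        g * x * g⁻¹ * s * (g * x * g⁻¹)⁻¹ * s⁻¹ := by group
    rw [e] at this
    exact this⟩

lemma DD_inv (S : Setup α V) {A : Subgroup T} [A.Normal] (hA : ∀ a ∈ A, α a ∈ A) :
    ∀ x ∈ DD A, α x ∈ DD A := by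
  rintro x ⟨hx1, hx2, hx3⟩
  refine ⟨?_, ?_, ?_⟩
  · intro a ha
    have h1 := hx1 (α.symm a) (S.symm_mem A hA ha)
    have h2 := congrArg α h1
    simpa [map_mul] using h2
  · rw [← map_mul]
    exact hA _ hx2
  · intro s
    have h1 := hA _ (hx3 (α.symm s))
    simpa [map_mul, map_inv] using h1

/-- Commutators of `DD A` are in `V`. -/
lemma comm_DD_mem_V (S : Setup α V) {A : Subgroup T} [A.Normal] {x y : T} (hx : x ∈ DD A) (hy : y ∈ DD A) :
    x * y * x⁻¹ * y⁻¹ ∈ V := by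
  rw [S.mem_V]
  obtain ⟨hx1, hx2, hx3⟩ := hx
  obtain ⟨hy1, hy2, hy3⟩ := hy
  have hc := hx3 y
  set c := x * y * x⁻¹ * y⁻¹ with hcdef
  have h1 : c * x = x * c := (hx1 c hc).symm
  have h2 : x * x * y = y * (x * x) := hy1 _ hx2 |>.symm
  calc c * c = c * x * y * x⁻¹ * y⁻¹ := by rw [hcdef]; group
    _ = x * c * y * x⁻¹ * y⁻¹ := by rw [h1]
    _ = (x * x * y) * (x * x)⁻¹ * y⁻¹ := by rw [hcdef]; group
    _ = (y * (x * x)) * (x * x)⁻¹ * y⁻¹ := by rw [h2]
    _ = 1 := by group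

/-- If `z ∈ DD A` has a square which is a square of `A` then `z ∈ A`. -/
lemma mem_of_sq_mem_Sq (S : Setup α V) {A : Subgroup T} [A.Normal] (h : AbSub A α V) {z : T}
    (hz : z ∈ DD A) (hs : z * z ∈ Sq A h.comm) : z ∈ A := by
  obtain ⟨a, ha, hae⟩ := hs
  have hca : a * z = z * a := (hz.1 a ha).symm
  have h1 : (z * a⁻¹) * (z * a⁻¹) = 1 := by
    have hca' : a⁻¹ * z = z * a⁻¹ := by
      calc a⁻¹ * z = a⁻¹ * (z * a) * a⁻¹ := by group
        _ = a⁻¹ * (a * z) * a⁻¹ := by rw [hca]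
        _ = z * a⁻¹ := by group
    calc (z * a⁻¹) * (z * a⁻¹) = z * (a⁻¹ * z) * a⁻¹ := by group
      _ = z * (z * a⁻¹) * a⁻¹ := by rw [hca']
      _ = (z * z) * (a * a)⁻¹ := by group
      _ = 1 := by rw [hae]; group
  have h2 : z * a⁻¹ ∈ A := h.hV ((S.mem_V _).mpr h1)
  have := A.mul_mem h2 ha
  simpa using this

/-- `|DD A : A| ≤ 4`. -/
lemma relIndex_DD_le (S : Setup α V) {A : Subgroup T} [A.Normal] (h : AbSub A α V) (hne : A ≠ V) :
    A.relIndex (DD A) ≤ 4 := by
  classical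
  haveI := S.fin
  let X := ↥A ⧸ (Sq A h.comm).subgroupOf A
  have hX : Nat.card X = 4 := S.relIndex_Sq h
  let f : T → X := fun x => if hx : x * x ∈ A then ((⟨x * x, hx⟩ : ↥A) : X) else 1
  have hV := S.V_le_Sq h hne
  rw [← hX]
  apply Cfsg.Agent.Lib.TwoFusion.SecRank.relIndex_le_of_fun A (DD A) f
  intro r hr r' hr' hf
  have h1 : r * r ∈ A := hr.2.1
  have h2 : r' * r' ∈ A := hr'.2.1
  simp only [f, dif_pos h1, dif_pos h2] at hf
  have h3 := (QuotientGroup.eq (s := (Sq A h.comm).subgroupOf A)).mp hf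
  rw [Subgroup.mem_subgroupOf] at h3
  have h4 : (r * r)⁻¹ * (r' * r') ∈ Sq A h.comm := h3
  set z := r⁻¹ * r' with hz
  have hzD : z ∈ DD A := (DD A).mul_mem ((DD A).inv_mem hr) hr'
  apply S.mem_of_sq_mem_Sq h hzD
  have hc : r⁻¹ * z * r * z⁻¹ ∈ V := by
    have := S.comm_DD_mem_V ((DD A).inv_mem hr) hzD
    simpa using this
  have hc2 := hV hc
  have e : z * z = (r⁻¹ * z * r * z⁻¹)⁻¹ * ((r * r)⁻¹ * (r' * r')) := by
    have hr'z : r' = r * z := by rw [hz]; group
    rw [hr'z]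
    group
  rw [e]
  exact (Sq A h.comm).mul_mem ((Sq A h.comm).inv_mem hc2) h4

/-- **Maximal invariant abelian normal subgroups `≠ V` are self-centralizing.** -/
theorem self_cent (S : Setup α V) {A : Subgroup T} [hA : A.Normal] (h : AbSub A α V) (hne : A ≠ V)
    (hmax : ∀ B : Subgroup T, B.Normal → (∀ x ∈ B, ∀ y ∈ B, x * y = y * x) → (∀ u ∈ B, α u ∈ B) →
      A ≤ B → B = A) {t : T} (ht : ∀ a ∈ A, t * a = a * t) : t ∈ A := by
  classical
  haveI := S.fin
  by_contra htA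
  let C : Subgroup T := Subgroup.centralizer (A : Set T)
  haveI : C.Normal := inferInstance
  have hCmem : ∀ x, x ∈ C ↔ ∀ a ∈ A, x * a = a * x := by
    intro x
    rw [Subgroup.mem_centralizer_iff]
    constructor
    · intro hx a ha
      exact (hx a ha).symm
    · intro hx a ha
      exact (hx a ha).symm
  have hAC : A ≤ C := by
    intro a ha
    rw [hCmem]
    intro b hb
    exact h.comm a ha b hb
  have htC : t ∈ C := (hCmem t).mpr ht
  obtain ⟨d, hdC, hdA, hd2, hd3⟩ := S.exists_central_mod A C hAC htC htA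
  have hdD : d ∈ DD A := ⟨(hCmem d).mp hdC, hd2, hd3⟩
  have hle : A ≤ DD A := by
    intro a ha
    refine ⟨fun b hb => h.comm a ha b hb, A.mul_mem ha ha, fun s => ?_⟩
    have := A.mul_mem (hA.conj_mem a ha s) (A.inv_mem ha)
    -- `[a, s] = a (s a⁻¹ s⁻¹)`
    have e : a * s * a⁻¹ * s⁻¹ = a * (s * a⁻¹ * s⁻¹) := by group
    rw [e]
    exact A.mul_mem ha (hA.conj_mem _ (A.inv_mem ha) s)
  have hr1 := S.relIndex_DD_le h hne
  have hcard := Cfsg.Agent.Lib.TwoFusion.SecRank.card_eq_relIndex_mul hle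
  obtain ⟨i, hi⟩ := S.card_eq_four_pow A h.inv
  obtain ⟨j, hj⟩ := S.card_eq_four_pow (DD A) (S.DD_inv h.inv)
  rw [hi, hj] at hcard
  have hr2 : A.relIndex (DD A) ≠ 1 := by
    intro h1
    rw [Subgroup.relIndex_eq_one] at h1
    exact hdA (h1 hdD)
  have hr0 : A.relIndex (DD A) ≠ 0 := by
    intro h0
    rw [h0, zero_mul] at hcard
    exact (pow_pos (by norm_num) j).ne' hcard
  have hr3 : A.relIndex (DD A) = 4 := by
    rcases lt_or_ge i j with hij | hij
    · have e : 4 ^ j = 4 ^ (j - i) * 4 ^ i := by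
        rw [← pow_add]; congr 1; omega
      rw [e] at hcard
      have e2 := Nat.eq_of_mul_eq_mul_right (by positivity) hcard
      have : 4 ^ 1 ≤ 4 ^ (j - i) := Nat.pow_le_pow_right (by norm_num) (by omega)
      omega
    · have e : 4 ^ j ≤ 4 ^ i := Nat.pow_le_pow_right (by norm_num) hij
      rw [hcard] at e
      have hp : 0 < 4 ^ i := by positivity
      have : A.relIndex (DD A) ≤ 1 := by
        by_contra hc
        have : 2 * 4 ^ i ≤ A.relIndex (DD A) * 4 ^ i := Nat.mul_le_mul_right _ (by omega)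
        omega
      omega
  have hcomm := S.comm_of_index_four A (DD A) hle h.inv (S.DD_inv h.inv) hr3
    (fun x hx y _ => hx.2.2 y) (fun x hx => hx.2.1) (fun m hm x hx => (hx.1 m hm).symm)
  have := hmax (DD A) inferInstance hcomm (S.DD_inv h.inv) hle
  rw [this] at hdD
  exact hdA hdD

end Setup

end Cfsg.Agent.Lib.TwoFusion.Hig
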