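import Cfsg.Agent.Lib.TwoFusion.Hig.Basic
import Cfsg.Agent.Lib.Involutions2.NormalFour

/-!
# Sections of order four
-/

set_option autoImplicit false
set_option linter.unusedSectionVars false
set_option linter.unusedVariables false
set_option linter.style.haveILetI false

namespace Cfsg.Agent.Lib.TwoFusion.Hig

open scoped commutatorElement

variable {T : Type*} [Group T] {α : MulAut T} {V : Subgroup T}

namespace Setup

/-- A normal subgroup `C` properly containing a normal subgroup `A` contains an element central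
of order two modulo `A`. -/
lemma exists_central_mod (S : Setup α V) (A C : Subgroup T) [A.Normal] [C.Normal] (hAC : A ≤ C) {t : T}
    (ht : t ∈ C) (htA : t ∉ A) : ∃ d ∈ C, d ∉ A ∧ d * d ∈ A ∧ ∀ s : T, d * s * d⁻¹ * s⁻¹ ∈ A := by
  classical
  haveI := S.fin
  haveI : Fact (Nat.Prime 2) := ⟨Nat.prime_two⟩
  let Q := T ⧸ A
  let π : T →* Q := QuotientGroup.mk' A
  have hQ : IsPGroup 2 Q := S.p2.to_quotient A
  let N : Subgroup Q := C.map π
  haveI : N.Normal := Subgroup.Normal.map inferInstance π (QuotientGroup.mk'_surjective A)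
  have hN : N ≠ ⊥ := by
    intro h
    have : π t ∈ N := ⟨t, ht, rfl⟩
    rw [h, Subgroup.mem_bot] at this
    exact htA ((QuotientGroup.eq_one_iff t).mp this)
  have h1 := Cfsg.Agent.Lib.Involutions2.NormalFour.inf_center_ne_bot hQ N hN
  -- an element of order two in `N ⊓ center Q`
  obtain ⟨q, hq, hq1⟩ : ∃ q ∈ N ⊓ Subgroup.center Q, q ≠ 1 := by
    by_contra hc
    push Not at hc
    apply h1
    rw [eq_bot_iff]
    intro x hx
    exact Subgroup.mem_bot.mpr (hc x hx)
  obtain ⟨k, hk⟩ := hQ q
  obtain ⟨m, -, hm⟩ := (Nat.dvd_prime_pow Nat.prime_two).mp (orderOf_dvd_of_pow_eq_one hk)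
  have hm0 : m ≠ 0 := by
    rintro rfl
    apply hq1
    rw [pow_zero] at hm
    exact orderOf_eq_one_iff.mp hm
  obtain ⟨n, rfl⟩ := Nat.exists_eq_succ_of_ne_zero hm0
  have hr := Subgroup.pow_mem _ hq (2 ^ n)
  have hr1 : q ^ 2 ^ n ≠ 1 := by
    apply pow_ne_one_of_lt_orderOf (by positivity)
    rw [hm, pow_succ]
    have : 0 < 2 ^ n := by positivity
    omega
  have hr2 : q ^ 2 ^ n * q ^ 2 ^ n = 1 := by
    rw [← pow_add, ← two_mul, ← pow_succ', ← hm]
    exact pow_orderOf_eq_one q
  obtain ⟨⟨d, hd, hdq⟩, hc⟩ := hr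
  refine ⟨d, hd, ?_, ?_, ?_⟩
  · intro hdA
    apply hr1
    rw [← hdq]
    exact (QuotientGroup.eq_one_iff d).mpr hdA
  · rw [← QuotientGroup.eq_one_iff]
    have : π (d * d) = 1 := by rw [map_mul, hdq, hr2]
    exact this
  · intro s
    rw [← QuotientGroup.eq_one_iff]
    have hcc := (Subgroup.mem_center_iff.mp hc) (π s)
    have : π (d * s * d⁻¹ * s⁻¹) = 1 := by
      rw [map_mul, map_mul, map_mul, map_inv, map_inv, hdq, ← hcc]
      group
    exact this

/-- The cosets in a section of order four. -/
theorem four_cosets (S : Setup α V) (M K : Subgroup T) [hMn : M.Normal] (hMK : M ≤ K)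
    (hMα : ∀ m ∈ M, α m ∈ M) (hKα : ∀ k ∈ K, α k ∈ K) (hidx : M.relIndex K = 4)
    (hcomm : ∀ x ∈ K, ∀ y ∈ K, x * y * x⁻¹ * y⁻¹ ∈ M) (hsq : ∀ x ∈ K, x * x ∈ M) {d : T} (hd : d ∈ K)
    (hdM : d ∉ M) :
    (∀ x ∈ K, x ∈ M ∨ d⁻¹ * x ∈ M ∨ (α d)⁻¹ * x ∈ M ∨ (d * α d)⁻¹ * x ∈ M) ∧
      (d * α d)⁻¹ * (α (α d)) ∈ M := by
  classical
  haveI := S.fin
  let π : T →* T ⧸ M := QuotientGroup.mk' M
  have hπ : ∀ x : T, π x = 1 ↔ x ∈ M := fun x => QuotientGroup.eq_one_iff x
  have hπc : ∀ x ∈ K, ∀ y ∈ K, π x * π y = π y * π x := by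
    intro x hx y hy
    have h := (hπ _).mpr (hcomm x hx y hy)
    rw [map_mul, map_mul, map_mul, map_inv, map_inv] at h
    have h2 : π x * π y * (π x)⁻¹ = π y := by
      calc π x * π y * (π x)⁻¹ = π x * π y * (π x)⁻¹ * (π y)⁻¹ * π y := by group
        _ = π y := by rw [h, one_mul]
    calc π x * π y = π x * π y * (π x)⁻¹ * π x := by group
      _ = π y * π x := by rw [h2]
  have hπs : ∀ x ∈ K, π x * π x = 1 := by
    intro x hx
    rw [← map_mul]
    exact (hπ _).mpr (hsq x hx)
  have had : α d ∈ K := hKα d hd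
  have hfix : ∀ x, x⁻¹ * α x ∈ M → x ∈ M := fun x hx => S.mem_of_fixed_mod M hMα hx
  have hadM : α d ∉ M := fun h => hdM (S.mem_of_map_mem M hMα h)
  have hne1 : π d ≠ 1 := fun h => hdM ((hπ _).mp h)
  have hne2 : π (α d) ≠ 1 := fun h => hadM ((hπ _).mp h)
  have hne3 : π (α d) ≠ π d := by
    intro h
    apply hdM
    apply hfix
    apply (hπ _).mp
    rw [map_mul, map_inv, h]
    group
  have hne4 : π d * π (α d) ≠ 1 := by
    intro h
    apply hne3
    have h2 : π d * π d = 1 := hπs d hd
    calc π (α d) = π d * π d * π (α d) := by rw [h2, one_mul]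
      _ = π d * (π d * π (α d)) := by group
      _ = π d := by rw [h, mul_one]
  let Q := ↥K ⧸ M.subgroupOf K
  let mk : ↥K → Q := fun x => (x : Q)
  have hmk : ∀ x y : ↥K, mk x = mk y ↔ (x : T)⁻¹ * y ∈ M := by
    intro x y
    rw [QuotientGroup.eq (s := M.subgroupOf K), Subgroup.mem_subgroupOf]
    rfl
  let r0 : ↥K := 1
  let r1 : ↥K := ⟨d, hd⟩
  let r2 : ↥K := ⟨α d, had⟩
  let r3 : ↥K := ⟨d * α d, K.mul_mem hd had⟩
  have key : ∀ x y : T, x⁻¹ * y ∈ M ↔ π x = π y := by
    intro x y
    rw [← hπ, map_mul, map_inv, inv_mul_eq_one]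
  have hcard : Nat.card Q = 4 := hidx
  haveI : Fintype Q := Fintype.ofFinite Q
  have hall : ∀ q : Q, q = mk r0 ∨ q = mk r1 ∨ q = mk r2 ∨ q = mk r3 := by
    let s : Finset Q := {mk r0, mk r1, mk r2, mk r3}
    have hs : s.card = 4 := by
      rw [Finset.card_insert_of_notMem, Finset.card_insert_of_notMem, Finset.card_insert_of_notMem,
        Finset.card_singleton]
      · rw [Finset.mem_singleton, hmk, key]
        intro h
        apply hne1
        have h' : π (α d) = π d * π (α d) := h
        have h'' : π d * π (α d) = 1 * π (α d) := by rw [one_mul]; exact h'.symm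
        exact mul_right_cancel h''
      · rw [Finset.mem_insert, Finset.mem_singleton, hmk, hmk, key, key, not_or]
        refine ⟨fun h => hne3 h.symm, fun h => ?_⟩
        apply hne2
        have h' : π d = π d * π (α d) := h
        have h'' : π d * π (α d) = π d * 1 := by rw [mul_one]; exact h'.symm
        exact mul_left_cancel h''
      · rw [Finset.mem_insert, Finset.mem_insert, Finset.mem_singleton, hmk, hmk, hmk, key, key, key,
          not_or, not_or]
        refine ⟨fun h => hne1 ?_, fun h => hne2 ?_, fun h => hne4 ?_⟩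
        · exact ((map_one π).symm.trans h).symm
        · exact ((map_one π).symm.trans h).symm
        · exact ((map_one π).symm.trans h).symm
    have hu : s = Finset.univ := by
      apply Finset.eq_univ_of_card
      rw [hs, ← Nat.card_eq_fintype_card, hcard]
    intro q
    have : q ∈ s := by rw [hu]; exact Finset.mem_univ _
    simpa [s] using this
  have hcases : ∀ x ∈ K, π x = 1 ∨ π x = π d ∨ π x = π (α d) ∨ π x = π d * π (α d) := by
    intro x hx
    rcases hall (mk ⟨x, hx⟩) with h | h | h | h
    · left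
      have := (key _ _).mp ((hmk _ _).mp h)
      simpa [r0] using this
    · right; left
      exact (key _ _).mp ((hmk _ _).mp h)
    · right; right; left
      exact (key _ _).mp ((hmk _ _).mp h)
    · right; right; right
      have := (key _ _).mp ((hmk _ _).mp h)
      simpa [r3] using this
  constructor
  · intro x hx
    rcases hcases x hx with h | h | h | h
    · left; exact (hπ _).mp h
    · right; left; rw [key, h]
    · right; right; left; rw [key, h]
    · right; right; right; rw [key, h, map_mul]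
  · have haad : α (α d) ∈ K := hKα _ had
    rw [key, map_mul]
    rcases hcases _ haad with h | h | h | h
    · exfalso
      apply hadM
      apply S.mem_of_map_mem M hMα
      exact (hπ _).mp h
    · exfalso
      apply hne4
      apply (hπ _).mpr
      apply hfix
      apply (hπ _).mp
      have e : α (d * α d) = α d * α (α d) := map_mul α _ _
      rw [e, map_mul π, map_inv π, map_mul π, map_mul π, h]
      have hc := hπc d hd _ had
      calc (π d * π (α d))⁻¹ * (π (α d) * π d) = (π d * π (α d))⁻¹ * (π d * π (α d)) := by rw [hc]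
        _ = 1 := by group
    · exfalso
      apply hne2
      apply (hπ _).mpr
      apply hfix
      apply (hπ _).mp
      rw [map_mul, map_inv, h]
      group
    · exact h.symm

/-- A section of order four with central kernel gives commutativity. -/
theorem comm_of_index_four (S : Setup α V) (M K : Subgroup T) [hMn : M.Normal] (hMK : M ≤ K)
    (hMα : ∀ m ∈ M, α m ∈ M) (hKα : ∀ k ∈ K, α k ∈ K) (hidx : M.relIndex K = 4)
    (hcomm : ∀ x ∈ K, ∀ y ∈ K, x * y * x⁻¹ * y⁻¹ ∈ M) (hsq : ∀ x ∈ K, x * x ∈ M)
    (hcen : ∀ m ∈ M, ∀ x ∈ K, m * x = x * m) : ∀ x ∈ K, ∀ y ∈ K, x * y = y * x := by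
  classical
  by_cases hall : ∀ x ∈ K, x ∈ M
  · intro x hx y hy
    exact hcen x (hall x hx) y hy
  push Not at hall
  obtain ⟨d, hd, hdM⟩ := hall
  obtain ⟨h1, h2⟩ := S.four_cosets M K hMK hMα hKα hidx hcomm hsq hd hdM
  have had : α d ∈ K := hKα d hd
  have haad : α (α d) ∈ K := hKα _ had
  -- the commutator of `d` and `α d`
  set c := d * α d * d⁻¹ * (α d)⁻¹ with hc
  have hcM : c ∈ M := hcomm _ hd _ had
  have hcK : c ∈ K := hMK hcM
  have hinv : ∀ x ∈ K, ∀ y ∈ K, (x * y * x⁻¹ * y⁻¹) * (x * y * x⁻¹ * y⁻¹) = 1 := by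
    intro x hx y hy
    have hb := hcomm x hx y hy
    -- `x²` is central in `K`
    have hs := hcen _ (hsq x hx) y hy
    have hb2 := hcen _ hb x hx
    have e : (x * y * x⁻¹ * y⁻¹) * (x * y * x⁻¹ * y⁻¹) = (x * y * x⁻¹ * y⁻¹) * x * y * x⁻¹ * y⁻¹ := by
      group
    rw [e, hb2]
    have hs' : x * x * y * (x * x)⁻¹ * y⁻¹ = 1 := by
      rw [hs]; group
    calc x * (x * y * x⁻¹ * y⁻¹) * y * x⁻¹ * y⁻¹ = x * x * y * (x * x)⁻¹ * y⁻¹ := by group
      _ = 1 := hs'
  have hcV : c ∈ V := (S.mem_V c).mpr (hinv d hd _ had)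
  have hαc : α c = c := by
    have hm : (d * α d)⁻¹ * α (α d) ∈ M := h2
    set m := (d * α d)⁻¹ * α (α d) with hmdef
    have e1 : α (α d) = d * α d * m := by rw [hmdef]; group
    have hmc := hcen m hm (α d) had
    have e2 : α c = α d * α (α d) * (α d)⁻¹ * (α (α d))⁻¹ := by
      rw [hc]; simp [map_mul, map_inv]
    have e3 : α c = α d * d * (α d)⁻¹ * d⁻¹ := by
      rw [e2, e1]
      have hmc' : m * (α d)⁻¹ = (α d)⁻¹ * m := by
        have := hcen m hm (α d)⁻¹ (K.inv_mem had)
        exact this
      calc α d * (d * α d * m) * (α d)⁻¹ * (d * α d * m)⁻¹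
          = α d * d * α d * (m * (α d)⁻¹) * (m⁻¹ * (α d)⁻¹ * d⁻¹) := by group
        _ = α d * d * (α d)⁻¹ * d⁻¹ := by rw [hmc']; group
    have e4 : α d * d * (α d)⁻¹ * d⁻¹ = c⁻¹ := by
      rw [hc]; group
    have hcc : c * c = 1 := (S.mem_V c).mp hcV
    rw [e3, e4]
    exact inv_eq_of_mul_eq_one_left hcc
  have hc1 : c = 1 := S.fpf c hαc
  have hcomm0 : d * α d = α d * d := by
    have : d * α d * d⁻¹ * (α d)⁻¹ = 1 := hc1
    calc d * α d = (d * α d * d⁻¹ * (α d)⁻¹) * (α d * d) := by group
      _ = α d * d := by rw [this, one_mul]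
  -- every element of `K` commutes with `d` and `α d`.
  have hcd : ∀ x ∈ K, x * d = d * x ∧ x * α d = α d * x := by
    intro x hx
    have hmm : ∀ m ∈ M, m * d = d * m ∧ m * α d = α d * m := fun m hm =>
      ⟨hcen m hm d hd, hcen m hm _ had⟩
    rcases h1 x hx with h | h | h | h
    · exact hmm x h
    · set m := d⁻¹ * x with hm
      have e : x = d * m := by rw [hm]; group
      obtain ⟨a, b⟩ := hmm m h
      rw [e]
      constructor
      · calc d * m * d = d * (m * d) := by group
          _ = d * (d * m) := by rw [a]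
          _ = d * (d * m) := rfl
      · calc d * m * α d = d * (m * α d) := by group
          _ = d * (α d * m) := by rw [b]
          _ = (d * α d) * m := by group
          _ = (α d * d) * m := by rw [hcomm0]
          _ = α d * (d * m) := by group
    · set m := (α d)⁻¹ * x with hm
      have e : x = α d * m := by rw [hm]; group
      obtain ⟨a, b⟩ := hmm m h
      rw [e]
      constructor
      · calc α d * m * d = α d * (m * d) := by group
          _ = α d * (d * m) := by rw [a]
          _ = (α d * d) * m := by group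
          _ = (d * α d) * m := by rw [hcomm0]
          _ = d * (α d * m) := by group
      · calc α d * m * α d = α d * (m * α d) := by group
          _ = α d * (α d * m) := by rw [b]
    · set m := (d * α d)⁻¹ * x with hm
      have e : x = d * α d * m := by rw [hm]; group
      obtain ⟨a, b⟩ := hmm m h
      rw [e]
      constructor
      · calc d * α d * m * d = d * α d * (m * d) := by group
          _ = d * α d * (d * m) := by rw [a]
          _ = d * (α d * d) * m := by group
          _ = d * (d * α d) * m := by rw [hcomm0]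
          _ = d * (d * α d * m) := by group
      · calc d * α d * m * α d = d * α d * (m * α d) := by group
          _ = d * α d * (α d * m) := by rw [b]
          _ = d * (α d * α d) * m := by group
          _ = (d * α d) * α d * m := by group
          _ = (α d * d) * α d * m := by rw [hcomm0]
          _ = α d * (d * α d * m) := by group
  intro x hx y hy
  have hxm : ∀ m ∈ M, x * m = m * x := fun m hm => (hcen m hm x hx).symm
  obtain ⟨a, b⟩ := hcd x hx
  rcases h1 y hy with h | h | h | h
  · exact hxm y h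
  · set m := d⁻¹ * y with hm
    have e : y = d * m := by rw [hm]; group
    rw [e]
    calc x * (d * m) = (x * d) * m := by group
      _ = d * x * m := by rw [a]
      _ = d * (x * m) := by group
      _ = d * (m * x) := by rw [hxm m h]
      _ = d * m * x := by group
  · set m := (α d)⁻¹ * y with hm
    have e : y = α d * m := by rw [hm]; group
    rw [e]
    calc x * (α d * m) = (x * α d) * m := by group
      _ = α d * x * m := by rw [b]
      _ = α d * (x * m) := by group
      _ = α d * (m * x) := by rw [hxm m h]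
      _ = α d * m * x := by group
  · set m := (d * α d)⁻¹ * y with hm
    have e : y = d * α d * m := by rw [hm]; group
    rw [e]
    calc x * (d * α d * m) = (x * d) * α d * m := by group
      _ = d * (x * α d) * m := by rw [a]; group
      _ = d * (α d * x) * m := by rw [b]
      _ = d * α d * (x * m) := by group
      _ = d * α d * (m * x) := by rw [hxm m h]
      _ = d * α d * m * x := by group

end Setup

end Cfsg.Agent.Lib.TwoFusion.Hig
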