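import Cfsg.Agent.Lib.TwoFusion.Hig.CW

/-!
# A bound for central extensions with anisotropic squaring map
-/

set_option autoImplicit false
set_option linter.unusedSectionVars false
set_option linter.unusedVariables false
set_option linter.style.haveILetI false

namespace Cfsg.Agent.Lib.TwoFusion.Hig

open scoped commutatorElement

/-- If `W` is a central extension of an elementary abelian `2`-group by `Z ≅ E₄` with anisotropic squaring
map then `|W| ≤ 64`. -/
theorem card_section_le {W : Type*} [Group W] [Finite W] (Z : Subgroup W) [Z.Normal]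
    (hZc : ∀ z ∈ Z, ∀ x : W, z * x = x * z) (hZ4 : Nat.card Z = 4) (hZ2 : ∀ z ∈ Z, z * z = 1)
    (hcomm : ∀ x y : W, ⁅x, y⁆ ∈ Z) (hsq : ∀ x : W, x * x ∈ Z) (hani : ∀ x : W, x * x = 1 → x ∈ Z) :
    Nat.card W ≤ 64 := by
  classical
  -- the quotient
  let E := W ⧸ Z
  have hmk1 : ∀ x : W, ((x : E) = 1 ↔ x ∈ Z) := fun x => QuotientGroup.eq_one_iff x
  have hEc : ∀ p q : E, p * q = q * p := by
    intro p q
    induction p using QuotientGroup.induction_on with
    | H x =>
      induction q using QuotientGroup.induction_on with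
      | H y =>
        have h1 := (hmk1 _).mpr (hcomm x y)
        rw [commutatorElement_def] at h1
        simp only [QuotientGroup.mk_mul, QuotientGroup.mk_inv] at h1
        calc (x : E) * (y : E) = ((x : E) * (y : E) * (x : E)⁻¹ * (y : E)⁻¹) * ((y : E) * (x : E)) := by group
          _ = (y : E) * (x : E) := by rw [h1, one_mul]
  letI CE : CommGroup E := { (inferInstance : Group E) with mul_comm := hEc }
  have hE2 : ∀ p : E, p * p = 1 := by
    intro p
    induction p using QuotientGroup.induction_on with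
    | H x =>
      have := (hmk1 _).mpr (hsq x)
      simpa using this
  letI ME : Module (ZMod 2) (Additive E) := AddCommGroup.zmodModule (n := 2) (fun x => by
    rw [two_nsmul]
    exact hE2 (Additive.toMul x))
  -- the kernel
  letI CZ : CommGroup Z := { (inferInstance : Group Z) with
    mul_comm := fun a b => Subtype.ext (hZc a.1 a.2 b.1) }
  letI MZ : Module (ZMod 2) (Additive Z) := AddCommGroup.zmodModule (n := 2) (fun x => by
    rw [two_nsmul]
    exact Subtype.ext (hZ2 _ (Additive.toMul x).2))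
  haveI : Module.Finite (ZMod 2) (Additive Z) := Module.Finite.of_finite
  have hdZ : Module.finrank (ZMod 2) (Additive Z) = 2 := by
    have h1 : Nat.card (Additive Z) = 2 ^ Module.finrank (ZMod 2) (Additive Z) := by
      rw [Module.natCard_eq_pow_finrank (K := ZMod 2), Nat.card_zmod]
    have h2 : Nat.card (Additive Z) = 4 := hZ4
    rw [h2] at h1
    have h3 : 2 ^ 2 = 2 ^ Module.finrank (ZMod 2) (Additive Z) := by rw [← h1]; norm_num
    exact (Nat.pow_right_injective (le_refl 2) h3).symm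
  let BZ := Module.finBasisOfFinrankEq (ZMod 2) (Additive Z) hdZ
  -- commutator rules
  have hcl : ∀ x y z : W, ⁅x * y, z⁆ = ⁅x, z⁆ * ⁅y, z⁆ := by
    intro x y z
    have hc := hZc _ (hcomm y z)
    simp only [commutatorElement_def] at hc ⊢
    set c := y * z * y⁻¹ * z⁻¹ with hcd
    have e : y * z * y⁻¹ = c * z := by rw [hcd]; group
    calc x * y * z * (x * y)⁻¹ * z⁻¹ = x * (y * z * y⁻¹) * x⁻¹ * z⁻¹ := by group
      _ = x * (c * z) * x⁻¹ * z⁻¹ := by rw [e]
      _ = (x * c) * z * x⁻¹ * z⁻¹ := by group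
      _ = (c * x) * z * x⁻¹ * z⁻¹ := by rw [hc x]
      _ = c * (x * z * x⁻¹ * z⁻¹) := by group
      _ = (x * z * x⁻¹ * z⁻¹) * c := by rw [hc]
  have hcr : ∀ x y z : W, ⁅x, y * z⁆ = ⁅x, y⁆ * ⁅x, z⁆ := by
    intro x y z
    have hc := hZc _ (hcomm x z)
    simp only [commutatorElement_def] at hc ⊢
    set c := x * z * x⁻¹ * z⁻¹ with hcd
    have e : x * z * x⁻¹ = c * z := by rw [hcd]; group
    calc x * (y * z) * x⁻¹ * (y * z)⁻¹ = (x * y * x⁻¹) * (x * z * x⁻¹) * z⁻¹ * y⁻¹ := by group
      _ = (x * y * x⁻¹) * (c * z) * z⁻¹ * y⁻¹ := by rw [e]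
      _ = (x * y * x⁻¹ * c) * y⁻¹ := by group
      _ = (c * (x * y * x⁻¹)) * y⁻¹ := by rw [← hc]
      _ = c * (x * y * x⁻¹ * y⁻¹) := by group
      _ = (x * y * x⁻¹ * y⁻¹) * c := by rw [hc]
  have hsqm : ∀ x y : W, (x * y) * (x * y) = (x * x) * (y * y) * ⁅x, y⁆ := by
    intro x y
    have hc := hZc _ (hcomm y x)
    have h2 := hZ2 _ (hcomm y x)
    have h3 : ⁅x, y⁆ = ⁅y, x⁆ := by
      rw [← commutatorElement_inv y x]
      exact inv_eq_of_mul_eq_one_left h2
    rw [h3]
    have e : y * x = ⁅y, x⁆ * (x * y) := by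
      rw [commutatorElement_def]; group
    calc (x * y) * (x * y) = x * (y * x) * y := by group
      _ = x * (⁅y, x⁆ * (x * y)) * y := by rw [← e]
      _ = (x * ⁅y, x⁆) * (x * y) * y := by group
      _ = (⁅y, x⁆ * x) * (x * y) * y := by rw [hc x]
      _ = ⁅y, x⁆ * ((x * x) * (y * y)) := by group
      _ = (x * x) * (y * y) * ⁅y, x⁆ := by rw [hc]
  let Q : E → Z := fun p => ⟨p.out * p.out, hsq _⟩
  let C : E → E → Z := fun p q => ⟨⁅p.out, q.out⁆, hcomm _ _⟩
  have hQ : ∀ x : W, Q (x : E) = ⟨x * x, hsq x⟩ := by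
    intro x
    apply Subtype.ext
    obtain ⟨z, hz⟩ := QuotientGroup.mk_out_eq_mul Z x
    change (x : E).out * (x : E).out = x * x
    rw [hz]
    have h1 := hZc z.1 z.2 x
    have h2 := hZ2 z.1 z.2
    calc x * z.1 * (x * z.1) = x * (z.1 * x) * z.1 := by group
      _ = x * (x * z.1) * z.1 := by rw [h1]
      _ = x * x * (z.1 * z.1) := by group
      _ = x * x := by rw [h2, mul_one]
  have hC : ∀ x y : W, C (x : E) (y : E) = ⟨⁅x, y⁆, hcomm x y⟩ := by
    intro x y
    apply Subtype.ext
    obtain ⟨z, hz⟩ := QuotientGroup.mk_out_eq_mul Z x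
    obtain ⟨w, hw⟩ := QuotientGroup.mk_out_eq_mul Z y
    change ⁅(x : E).out, (y : E).out⁆ = ⁅x, y⁆
    rw [hz, hw, hcl]
    have e1 : ⁅z.1, y * w.1⁆ = 1 := by
      rw [commutatorElement_eq_one_iff_mul_comm]
      exact hZc _ z.2 _
    have e2 : ⁅x, w.1⁆ = 1 := by
      rw [commutatorElement_eq_one_iff_mul_comm]
      exact (hZc _ w.2 _).symm
    rw [e1, mul_one, hcr, e2, mul_one]
  -- the quadratic forms
  have hqf : ∀ L : Additive Z →ₗ[ZMod 2] ZMod 2,
      QF (fun p : Additive E => L (Additive.ofMul (Q (Additive.toMul p))))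
        (fun p q : Additive E => L (Additive.ofMul (C (Additive.toMul p) (Additive.toMul q)))) := by
    intro L
    have hrep : ∀ p : Additive E, ∃ x : W, p = Additive.ofMul (x : E) := by
      intro p
      obtain ⟨x, hx⟩ := QuotientGroup.mk_surjective (Additive.toMul p)
      exact ⟨x, by rw [hx]; rfl⟩
    have hadd : ∀ x y : W, Additive.ofMul (x : E) + Additive.ofMul (y : E) = Additive.ofMul ((x * y : W) : E) := by
      intro x y
      rfl
    refine ⟨?_, ?_, ?_⟩
    · intro p q
      obtain ⟨x, rfl⟩ := hrep p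
      obtain ⟨y, rfl⟩ := hrep q
      rw [hadd]
      simp only [toMul_ofMul]
      rw [hQ, hQ, hQ, hC, ← map_add, ← map_add, ← ofMul_mul, ← ofMul_mul]
      congr 2
      apply Subtype.ext
      exact hsqm x y
    · intro p q r
      obtain ⟨x, rfl⟩ := hrep p
      obtain ⟨y, rfl⟩ := hrep q
      obtain ⟨z, rfl⟩ := hrep r
      rw [hadd]
      simp only [toMul_ofMul]
      rw [hC, hC, hC, ← map_add, ← ofMul_mul]
      congr 2
      apply Subtype.ext
      exact hcl x y z
    · intro p q r
      obtain ⟨x, rfl⟩ := hrep p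
      obtain ⟨y, rfl⟩ := hrep q
      obtain ⟨z, rfl⟩ := hrep r
      rw [hadd]
      simp only [toMul_ofMul]
      rw [hC, hC, hC, ← map_add, ← ofMul_mul]
      congr 2
      apply Subtype.ext
      exact hcr x y z
  -- the bound
  have hE16 : Nat.card (Additive E) ≤ 16 := by
    by_contra hc
    push Not at hc
    obtain ⟨p, hp0, hp1, hp2⟩ := exists_common_zero (hqf (BZ.coord 0)) (hqf (BZ.coord 1)) hc
    obtain ⟨x, hx⟩ := QuotientGroup.mk_surjective (Additive.toMul p)
    have hp : p = Additive.ofMul (x : E) := by rw [hx]; rfl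
    subst hp
    simp only [toMul_ofMul] at hp1 hp2
    rw [hQ] at hp1 hp2
    have hz : Additive.ofMul (⟨x * x, hsq x⟩ : Z) = 0 := by
      apply BZ.ext_elem
      intro i
      fin_cases i
      · simpa using hp1
      · simpa using hp2
    have hxx : x * x = 1 := congrArg Subtype.val hz
    apply hp0
    exact (hmk1 x).mpr (hani x hxx)
  have hW : Nat.card W = Nat.card E * Nat.card Z := Subgroup.card_eq_card_quotient_mul_card_subgroup Z
  rw [hW, hZ4]
  have : Nat.card E ≤ 16 := hE16
  omega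

end Cfsg.Agent.Lib.TwoFusion.Hig
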