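import Cfsg.Agent.Lib.TwoFusion.Hig.Analysis
import Cfsg.Agent.Lib.TwoFusion.Hig.Sect
import Cfsg.Agent.Lib.TwoFusion.Hig.Max

/-!
# The structure theorem: either abelian or of order 64 with `Φ(T) = Z(T) = V`
-/

set_option autoImplicit false
set_option linter.unusedSectionVars false
set_option linter.unusedVariables false
set_option linter.style.haveILetI false

namespace Cfsg.Agent.Lib.TwoFusion.Hig

open scoped commutatorElement

variable {T : Type*} [Group T] {α : MulAut T} {V : Subgroup T}

namespace Setup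

lemma V_normal (S : Setup α V) : V.Normal := ⟨by
  intro v hv g
  have := S.central v hv g
  have e : g * v * g⁻¹ = v := by
    rw [← this]; group
  rw [e]; exact hv⟩

theorem structure_thm (S : Setup α V) :
    (∀ x y : T, x * y = y * x) ∨
      (Nat.card T = 64 ∧ (∀ z ∈ Subgroup.center T, z ∈ V) ∧ ∀ t : T, t * t ∈ V) := by
  classical
  haveI := S.fin
  haveI hVn := S.V_normal
  let Fam : Set (Subgroup T) := {B | B.Normal ∧ (∀ x ∈ B, ∀ y ∈ B, x * y = y * x) ∧
    (∀ u ∈ B, α u ∈ B) ∧ V ≤ B}
  have hVF : V ∈ Fam := ⟨hVn, fun x hx y _ => S.central x hx y, fun u hu => S.map_V hu, le_rfl⟩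
  obtain ⟨A, ⟨hAn, hAc, hAi, hVA⟩, hm⟩ := Set.exists_max_image Fam (fun L : Subgroup T => Nat.card L)
    (Set.toFinite _) ⟨V, hVF⟩
  haveI := hAn
  have hab : AbSub A α V := ⟨hAc, hAi, hVA⟩
  have hmax : ∀ B : Subgroup T, B.Normal → (∀ x ∈ B, ∀ y ∈ B, x * y = y * x) → (∀ u ∈ B, α u ∈ B) →
      A ≤ B → B = A := by
    intro B h1 h2 h3 h4
    exact (Subgroup.eq_of_le_of_card_ge h4 (hm B ⟨h1, h2, h3, hVA.trans h4⟩)).symm
  by_cases hne : A = V
  · -- `A = V`
    subst hne
    by_cases htop : A = ⊤
    · left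
      intro x y
      exact hAc x (by rw [htop]; trivial) y (by rw [htop]; trivial)
    obtain ⟨t, ht⟩ : ∃ t, t ∉ A := by
      by_contra hc
      push Not at hc
      apply htop
      rw [eq_top_iff]
      intro x _
      exact hc x
    obtain ⟨d, -, hdA, hd2, hd3⟩ := S.exists_central_mod A ⊤ le_top (Subgroup.mem_top t) ht
    have hcen : ∀ x : T, ∀ a ∈ A, x * a = a * x := fun x a ha => (S.central a ha x).symm
    have hdD : d ∈ DD A := ⟨fun a ha => hcen d a ha, hd2, hd3⟩
    have hle : A ≤ DD A := by
      intro a ha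
      refine ⟨fun b hb => hAc a ha b hb, A.mul_mem ha ha, fun s => ?_⟩
      have e : a * s * a⁻¹ * s⁻¹ = 1 := by
        rw [S.central a ha s]; group
      rw [e]; exact A.one_mem
    -- the order bound
    let Z : Subgroup ↥(DD A) := A.subgroupOf (DD A)
    haveI : Z.Normal := Subgroup.Normal.subgroupOf hAn _
    have hcard64 : Nat.card (DD A) ≤ 64 := by
      apply card_section_le Z
      · intro z hz x
        apply Subtype.ext
        exact S.central z.1 hz x.1
      · have : Nat.card Z = Nat.card A :=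
          Nat.card_congr (Subgroup.subgroupOfEquivOfLe hle).toEquiv
        rw [this]
        exact S.card_V
      · intro z hz
        apply Subtype.ext
        exact (S.mem_V z.1).mp hz
      · intro x y
        exact S.comm_DD_mem_V x.2 y.2
      · intro x
        change (x : T) * x ∈ A
        exact x.2.2.1
      · intro x hx
        change (x : T) ∈ A
        rw [S.mem_V]
        exact congrArg Subtype.val hx
    obtain ⟨j, hj⟩ := S.card_eq_four_pow (DD A) (S.DD_inv hAi)
    have hcardA : Nat.card A = 4 := S.card_V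
    have hrel := Cfsg.Agent.Lib.TwoFusion.SecRank.card_eq_relIndex_mul hle
    rw [hcardA] at hrel
    have hne1 : A.relIndex (DD A) ≠ 1 := by
      intro h1
      rw [Subgroup.relIndex_eq_one] at h1
      exact hdA (h1 hdD)
    have hj2 : j = 2 ∨ j = 3 := by
      have h4 : j ≤ 3 := by
        by_contra hc
        have : 4 ^ 4 ≤ 4 ^ j := Nat.pow_le_pow_right (by norm_num) (by omega)
        omega
      interval_cases j
      · -- j = 0
        rw [pow_zero] at hj
        omega
      · -- j = 1
        exfalso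
        apply hne1
        rw [hj] at hrel
        omega
      · left; rfl
      · right; rfl
    rcases hj2 with rfl | rfl
    · -- order 16: contradiction
      exfalso
      have hr3 : A.relIndex (DD A) = 4 := by
        rw [hj] at hrel
        omega
      have hcomm := S.comm_of_index_four A (DD A) hle hAi (S.DD_inv hAi) hr3
        (fun x hx y _ => hx.2.2 y) (fun x hx => hx.2.1) (fun m hm x hx => (hx.1 m hm).symm)
      have := hmax (DD A) inferInstance hcomm (S.DD_inv hAi) hle
      rw [this] at hdD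
      exact hdA hdD
    -- order 64
    right
    -- the center of `DD A`
    let R : Subgroup T :=
      { carrier := {x | x ∈ DD A ∧ ∀ y ∈ DD A, x * y = y * x}
        one_mem' := ⟨(DD A).one_mem, by simp⟩
        mul_mem' := by
          rintro a b ⟨ha, ha'⟩ ⟨hb, hb'⟩
          refine ⟨(DD A).mul_mem ha hb, fun y hy => ?_⟩
          rw [mul_assoc, hb' y hy, ← mul_assoc, ha' y hy, mul_assoc]
        inv_mem' := by
          rintro a ⟨ha, ha'⟩
          refine ⟨(DD A).inv_mem ha, fun y hy => ?_⟩
          have := ha' y hy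
          calc a⁻¹ * y = a⁻¹ * (y * a) * a⁻¹ := by group
            _ = a⁻¹ * (a * y) * a⁻¹ := by rw [this]
            _ = y * a⁻¹ := by group }
    have hRn : R.Normal := ⟨by
      rintro x ⟨hx, hx'⟩ g
      refine ⟨(DD_normal A).conj_mem x hx g, fun y hy => ?_⟩
      have h := hx' (g⁻¹ * y * g) (by
        have := (DD_normal A).conj_mem y hy g⁻¹
        simpa using this)
      calc g * x * g⁻¹ * y = g * (x * (g⁻¹ * y * g)) * g⁻¹ := by group
        _ = g * ((g⁻¹ * y * g) * x) * g⁻¹ := by rw [h]
        _ = y * (g * x * g⁻¹) := by group⟩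
    have hRc : ∀ x ∈ R, ∀ y ∈ R, x * y = y * x := fun x hx y hy => hx.2 y hy.1
    have hRi : ∀ u ∈ R, α u ∈ R := by
      rintro u ⟨hu, hu'⟩
      refine ⟨S.DD_inv hAi u hu, fun y hy => ?_⟩
      have h := hu' (α.symm y) (S.symm_mem (DD A) (S.DD_inv hAi) hy)
      have h2 := congrArg α h
      simpa [map_mul] using h2
    have hAR : A ≤ R := fun a ha => ⟨hle ha, fun y hy => S.central a ha y⟩
    have hRA : R = A := hmax R hRn hRc hRi hAR
    -- the centralizer of `DD A` in `T` is `V`
    let C : Subgroup T := Subgroup.centralizer ((DD A : Subgroup T) : Set T)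
    haveI : C.Normal := inferInstance
    have hCmem : ∀ x, x ∈ C ↔ ∀ a ∈ DD A, x * a = a * x := by
      intro x
      rw [Subgroup.mem_centralizer_iff]
      exact ⟨fun hx a ha => (hx a ha).symm, fun hx a ha => (hx a ha).symm⟩
    have hAC : A ≤ C := fun a ha => (hCmem a).mpr (fun y _ => S.central a ha y)
    have hCA : ∀ x ∈ C, x ∈ A := by
      intro x hx
      by_contra hxA
      obtain ⟨e, heC, heA, he2, he3⟩ := S.exists_central_mod A C hAC hx hxA
      have heD : e ∈ DD A := ⟨fun a ha => hcen e a ha, he2, he3⟩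
      have heR : e ∈ R := ⟨heD, (hCmem e).mp heC⟩
      rw [hRA] at heR
      exact heA heR
    -- commutators with `DD A` are in `A`
    have hcmA : ∀ (t w : T), w ∈ DD A → t * w * t⁻¹ * w⁻¹ ∈ A := by
      intro t w hw
      have h := A.inv_mem (hw.2.2 t)
      have e : (w * t * w⁻¹ * t⁻¹)⁻¹ = t * w * t⁻¹ * w⁻¹ := by group
      rwa [e] at h
    -- the commutator is a homomorphism in the first variable
    have hcmmul : ∀ (s t w : T), w ∈ DD A →
        (s * t) * w * (s * t)⁻¹ * w⁻¹ = (s * w * s⁻¹ * w⁻¹) * (t * w * t⁻¹ * w⁻¹) := by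
      intro s t w hw
      have hc := S.central _ (hcmA t w hw) s
      set c := t * w * t⁻¹ * w⁻¹ with hcdef
      have e1 : t * w * t⁻¹ = c * w := by rw [hcdef]; group
      calc (s * t) * w * (s * t)⁻¹ * w⁻¹ = s * (t * w * t⁻¹) * s⁻¹ * w⁻¹ := by group
        _ = s * (c * w) * s⁻¹ * w⁻¹ := by rw [e1]
        _ = (s * c) * w * s⁻¹ * w⁻¹ := by group
        _ = (c * s) * w * s⁻¹ * w⁻¹ := by rw [hc]
        _ = c * (s * w * s⁻¹ * w⁻¹) := by group
        _ = (s * w * s⁻¹ * w⁻¹) * c := S.central c (by rw [hcdef]; exact hcmA t w hw) _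
    have hcminv : ∀ (t w : T), w ∈ DD A →
        t⁻¹ * w * t⁻¹⁻¹ * w⁻¹ = (t * w * t⁻¹ * w⁻¹)⁻¹ := by
      intro t w hw
      apply eq_inv_of_mul_eq_one_left
      rw [← hcmmul t⁻¹ t w hw]
      group
    have hcmone : ∀ (x w : T), x * w * x⁻¹ * w⁻¹ = 1 → x * w = w * x := by
      intro x w h
      calc x * w = (x * w * x⁻¹ * w⁻¹) * (w * x) := by group
        _ = w * x := by rw [h, one_mul]
    have hsqC : ∀ t : T, t * t ∈ A := by
      intro t
      apply hCA
      rw [hCmem]
      intro w hw
      apply hcmone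
      rw [hcmmul t t w hw]
      exact (S.mem_V _).mp (hcmA t w hw)
    have hcoC : ∀ s t : T, s * t * s⁻¹ * t⁻¹ ∈ A := by
      intro s t
      apply hCA
      rw [hCmem]
      intro w hw
      apply hcmone
      rw [hcmmul _ _ w hw, hcmmul _ _ w hw, hcmmul _ _ w hw, hcminv _ _ hw, hcminv _ _ hw]
      have := S.central _ (hcmA s w hw) (t * w * t⁻¹ * w⁻¹)
      rw [this]
      group
    have htopD : DD A = ⊤ := by
      rw [eq_top_iff]
      intro t _
      exact ⟨fun a ha => hcen t a ha, hsqC t, hcoC t⟩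
    refine ⟨?_, ?_, hsqC⟩
    · rw [htopD] at hj
      rw [Subgroup.card_top] at hj
      rw [hj]
      norm_num
    · intro z hz
      apply hCA
      rw [hCmem]
      intro a _
      exact (Subgroup.mem_center_iff.mp hz a).symm
  · -- `A ≠ V`
    obtain ⟨n, he⟩ := S.exists_exp hab
    have hcen : ∀ t : T, (∀ a ∈ A, t * a = a * t) → t ∈ A := fun t ht => S.self_cent hab hne hmax ht
    have H : Ana S A n := ⟨hab, he, hcen⟩
    obtain ⟨a, ha, hav⟩ : ∃ a ∈ A, a ∉ V := by
      by_contra hc
      push Not at hc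
      exact hne (le_antisymm hc hVA)
    have ha2 : a * a ≠ 1 := fun h => hav ((S.mem_V a).mpr h)
    have hn := (S.exists_power_form hab he ha ha2).1
    by_cases htop : A = ⊤
    · left
      intro x y
      exact hAc x (by rw [htop]; trivial) y (by rw [htop]; trivial)
    · right
      exact H.final hn hne htop

end Setup

end Cfsg.Agent.Lib.TwoFusion.Hig
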